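import Cfsg.Agent.Lib.PGroup.OrthThreeIndex.NoTriv

/-!
Counting and moving vectors for quadratic forms in odd dimension over the field with three elements.
-/

set_option autoImplicit false
set_option linter.unusedSectionVars false

namespace CfsgLib.PGroup.OrthOddThree

open scoped Matrix
open Matrix Cfsg.Geo CfsgLib.Perm.Asch CfsgLib.Perm.Trans CfsgLib.Perm.Trans.Quad CfsgLib.PGroup.OrthIndex
open CfsgLib.PGroup.OrthThreeIndex (three_eq_zero two_ne_zero' eq_cases nd_orth)

variable {ι : Type} [Fintype ι] [DecidableEq ι] {F : Type*} [Field F] [Fintype F]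
variable {Q : (ι → F) → F}

local notation "pol" => QuadraticMap.polar

variable (hQ : IsNondegenerateQuadraticForm Q)
include hQ

/-- Odd dimensional spaces have about a third of their vectors of each value. -/
theorem sphere_ge (h3 : Fintype.card F = 3) (c : F) : ∀ (j : ℕ) {P : Submodule F (ι → F)}, NdOn Q P →
    Module.finrank F P = 2 * j + 1 →
    3 ^ (2 * j) ≤ (sphere Q P c).ncard + 3 ^ j ∧ (c = 0 → 3 ^ (2 * j) ≤ (sphere Q P c).ncard)
  | 0, P, hP, _ => by
    refine ⟨by simp, fun hc => ?_⟩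
    subst hc
    exact (Set.ncard_pos (sphere_finite hQ P 0)).2 ⟨0, P.zero_mem, qzero hQ⟩
  | j + 1, P, hP, hd => by
    obtain ⟨P', -, hP', hd', heq⟩ := sphere_step hQ hP (by omega) c
    obtain ⟨ih, ih0⟩ := sphere_ge h3 c j hP' (by omega)
    rw [heq, h3, show Module.finrank F P - 2 = 2 * j + 1 by omega]
    constructor
    · rw [show 2 * (j + 1) = 2 * j + 1 + 1 by ring, pow_succ, pow_succ 3 j, pow_succ 3 (2 * j)]
      omega
    · intro hc
      have := ih0 hc
      rw [show 2 * (j + 1) = 2 * j + 1 + 1 by ring, pow_succ, pow_succ 3 (2 * j)]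
      omega

/-- One of the two non-zero values is taken exactly a third of the time less the error term. -/
theorem minus_value (h3 : Fintype.card F = 3) : ∀ (j : ℕ) {P : Submodule F (ι → F)}, NdOn Q P →
    Module.finrank F P = 2 * j + 1 → ∃ ν : F, ν ≠ 0 ∧ (sphere Q P ν).ncard + 3 ^ j = 3 ^ (2 * j)
  | 0, P, hP, hd => by
    obtain ⟨k, hk, hQk⟩ := exists_nonsingular hQ hP (fun h => by rw [h, finrank_bot] at hd; omega)
    have hk0 : k ≠ 0 := fun h => hQk (by rw [h, qzero hQ])
    have hspan : Submodule.span F {k} = P := Submodule.eq_of_le_of_finrank_le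
      ((Submodule.span_singleton_le_iff_mem _ _).2 hk) (by rw [finrank_span_singleton hk0]; omega)
    refine ⟨-Q k, neg_ne_zero.2 hQk, ?_⟩
    have : sphere Q P (-Q k) = ∅ := Set.eq_empty_iff_forall_notMem.2 fun v ⟨hv, hQv⟩ => by
      rw [← hspan] at hv
      obtain ⟨c, rfl⟩ := Submodule.mem_span_singleton.1 hv
      rw [qsmul hQ] at hQv
      have h1 : (c ^ 2 + 1) * Q k = 0 := by linear_combination hQv
      rcases eq_cases h3 c with rfl | rfl | rfl
      · exact hQk (by linear_combination h1)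
      · exact hQk ((mul_eq_zero.1 (show (2 : F) * Q k = 0 by linear_combination h1)).resolve_left (two_ne_zero' h3))
      · exact hQk ((mul_eq_zero.1 (show (2 : F) * Q k = 0 by linear_combination h1)).resolve_left (two_ne_zero' h3))
    rw [this]
    simp
  | j + 1, P, hP, hd => by
    obtain ⟨e, he, he0, hQe⟩ := exists_singular_mem hQ P (by omega)
    obtain ⟨f, hf, hQf, hef⟩ := exists_partner hQ hP he he0 hQe
    have hd' := pair_finrank_eq hQ he hf hQe hQf hef
    obtain ⟨ν, hν, hcount⟩ := minus_value h3 j (pair_nd hQ he hf hQe hQf hef hP) (by omega)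
    refine ⟨ν, hν, ?_⟩
    rw [card_sphere hQ he hf hQe hQf hef ν, h3, show Module.finrank F P - 2 = 2 * j + 1 by omega,
      show 2 * (j + 1) = 2 * j + 1 + 1 by ring, pow_succ 3 (2 * j + 1), pow_succ 3 j, pow_succ 3 (2 * j)]
    omega

/-- A singular vector orthogonal to `w` outside the kernel of a linear function. -/
theorem exists_singular_off {P : Submodule F (ι → F)} (hP : NdOn Q P) (hd : 5 ≤ Module.finrank F P)
    {v w : ι → F} (hv : v ∈ P) (hw : w ∈ P) (hvw : ∀ c : F, v ≠ c • w) :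
    ∃ s ∈ P, Q s = 0 ∧ pol Q s w = 0 ∧ pol Q s v ≠ 0 := by
  obtain ⟨t, t', ht, ht', hQt, hQt', htt, htw, htw'⟩ := exists_pair_orth hQ hP hd hw
  by_contra hcon
  simp only [not_exists, not_and, not_not, ne_eq] at hcon
  obtain ⟨c, hc⟩ := mem_span_of_orth hQ hP hw hv fun y hy hyw =>
    map_eq_zero_of_singular hQ (D := orthIn hQ P w) ((mem_orthIn hQ).2 ⟨ht, htw⟩) hQt
      ((mem_orthIn hQ).2 ⟨ht', htw'⟩) (by rw [htt]; exact one_ne_zero) (pfl hQ v)
      (fun z hz hQz => hcon z hz.1 hQz hz.2) ((mem_orthIn hQ).2 ⟨hy, hyw⟩)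
  exact hvw c hc

/-- One Eichler transformation carries a vector to another of the same value outside its line. -/
theorem move_off {P : Submodule F (ι → F)} (hP : NdOn Q P) (hd : 5 ≤ Module.finrank F P)
    {v v' : ι → F} (hv : v ∈ P) (hv' : v' ∈ P) (hv0 : v ≠ 0) (hline : ∀ c : F, v' ≠ c • v) (hQ' : Q v = Q v') :
    ∃ g ∈ inner hQ P, act g v = v' := by
  obtain ⟨s, hs, hQs, hsw, hsv⟩ := exists_singular_off hQ hP hd (w := v' - v) hv (P.sub_mem hv' hv) fun c hc => by
    rcases eq_or_ne c 0 with rfl | hc0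
    · exact hv0 (by rw [hc, zero_smul])
    refine hline (c⁻¹ + 1) ?_
    conv_rhs => rw [add_smul, one_smul]; arg 1; rw [hc, smul_smul, inv_mul_cancel₀ hc0, one_smul]
    abel
  obtain ⟨g, hg, -, hgv⟩ := step hQ (u := 0) hv hv' hs hQs hQ' (by rw [pzero_left hQ, pzero_left hQ])
    (pzero_right hQ s) (by
      rw [psub_right hQ, sub_eq_zero] at hsw
      rw [pcomm v s, pcomm v' s, hsw]) (by rwa [pcomm])
  exact ⟨g, hg, hgv⟩

/-- The group of a subspace is transitive on its non-zero vectors of a value. -/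
theorem move_value (h3 : Fintype.card F = 3) {P : Submodule F (ι → F)} (hP : NdOn Q P)
    (hd : 5 ≤ Module.finrank F P) {v v' : ι → F} (hv : v ∈ P) (hv' : v' ∈ P) (hv0 : v ≠ 0) (hv'0 : v' ≠ 0)
    (hQ' : Q v = Q v') : ∃ g ∈ inner hQ P, act g v = v' := by
  by_cases hline : ∀ c : F, v' ≠ c • v
  · exact move_off hQ hP hd hv hv' hv0 hline hQ'
  simp only [not_forall, not_not, ne_eq] at hline
  obtain ⟨c, hc⟩ := hline
  have hsph := sphere_lower hQ hP (by omega) (Q v)
  have hlt : ({0, v, -v} : Set (ι → F)).ncard < (sphere Q P (Q v)).ncard := by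
    have h1 : ({0, v, -v} : Set (ι → F)).ncard ≤ 3 :=
      (Set.ncard_insert_le _ _).trans (Nat.add_le_add_right ((Set.ncard_insert_le _ _).trans (by simp)) 1)
    have h2 : 1 ≤ 3 ^ (Module.finrank F P - 2) := Nat.one_le_pow _ _ (by norm_num)
    rw [h3] at hsph
    omega
  obtain ⟨v₁, ⟨hv₁, hQv₁⟩, hn⟩ := Set.exists_mem_notMem_of_ncard_lt_ncard hlt (Set.toFinite _)
  have hn₁ : ∀ k : F, v₁ ≠ k • v := fun k hk => hn (by rcases eq_cases h3 k with rfl | rfl | rfl <;> simp [hk])
  obtain ⟨g₁, hg₁, hg₁v⟩ := move_off hQ hP hd hv hv₁ hv0 hn₁ hQv₁.symm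
  obtain ⟨g₂, hg₂, hg₂v⟩ := move_off hQ hP hd hv₁ hv' (fun h => hn₁ 0 (by rw [h, zero_smul]))
    (fun k hk => by
      have hk0 : k ≠ 0 := fun h => hv'0 (by rw [hk, h, zero_smul])
      exact hn₁ (k⁻¹ * c) (by rw [← smul_smul, ← hc, hk, smul_smul, inv_mul_cancel₀ hk0, one_smul]))
    (hQv₁.trans hQ')
  exact ⟨g₂ * g₁, mul_mem hg₂ hg₁, by rw [act_mul, hg₁v, hg₂v]⟩

/-- Vectors orthogonal to a nonsingular vector have large orbits under its stabiliser. -/
theorem orbit_orth (h3 : Fintype.card F = 3) {P : Submodule F (ι → F)} (hP : NdOn Q P)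
    (hd : 5 ≤ Module.finrank F P) {a b : ι → F} (ha : a ∈ P) (hQa : Q a ≠ 0) (hb : b ∈ P)
    (hba : pol Q b a = 0) (hb0 : b ≠ 0) :
    3 ^ (Module.finrank F P - 3) ≤ {b' : ι → F | ∃ g ∈ inner hQ P, act g a = a ∧ act g b = b'}.ncard := by
  classical
  have hA := nd_orth hQ hP ha (by rw [pself hQ]; exact mul_ne_zero (two_ne_zero' h3) hQa)
  have hAd := finrank_orthIn hQ P a
  obtain ⟨t, ht, ht0, hQt⟩ := exists_singular_mem hQ (orthIn hQ P a) (by omega)
  obtain ⟨t', ht', hQt', htt⟩ := exists_partner hQ hA ht ht0 hQt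
  obtain ⟨s, hs, hQs, hsb⟩ : ∃ s ∈ orthIn hQ P a, Q s = 0 ∧ pol Q s b ≠ 0 := by
    by_contra hcon
    simp only [not_exists, not_and, not_not, ne_eq] at hcon
    obtain ⟨y, hy, hyb⟩ := (hA b ((mem_orthIn hQ).2 ⟨hb, hba⟩) hb0).1
    exact hyb (map_eq_zero_of_singular hQ ht hQt ht' (by rw [htt]; exact one_ne_zero) (pfl hQ b) hcon hy)
  obtain ⟨s', hs', hQs', hss⟩ := exists_partner hQ hA hs (fun h => hsb (by rw [h, pzero_left hQ])) hQs
  set P' := pairPerp hQ (orthIn hQ P a) s s' with hP'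
  have hP'd := pair_finrank_eq hQ hs hs' hQs hQs' hss
  rw [← hP'] at hP'd
  obtain ⟨hsP, hsa⟩ := (mem_orthIn hQ).1 hs
  have hP'mem : ∀ w : P', (w : ι → F) ∈ P ∧ pol Q (w : ι → F) a = 0 ∧ pol Q s (w : ι → F) = 0 := fun w => by
    obtain ⟨hw, hws, -⟩ := (mem_pairPerp hQ).1 w.2
    obtain ⟨hwP, hwa⟩ := (mem_orthIn hQ).1 hw
    exact ⟨hwP, hwa, by rw [pcomm]; exact hws⟩
  let toB : P' → {b' : ι → F | ∃ g ∈ inner hQ P, act g a = a ∧ act g b = b'} := fun w =>
    ⟨act (el hQ s w.1) b, _, el_mem_inner hQ hsP (hP'mem w).1 hQs (hP'mem w).2.2,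
      by rw [act_el hQ hQs (hP'mem w).2.2, pcomm a s, hsa, pcomm a w.1, (hP'mem w).2.1]; module, rfl⟩
  have hinj : Function.Injective toB := fun w w' h => by
    have h' : act (el hQ s w.1) b = act (el hQ s w'.1) b := congrArg Subtype.val h
    rw [act_el hQ hQs (hP'mem w).2.2, act_el hQ hQs (hP'mem w').2.2] at h'
    set δ := pol Q b w.1 + Q w.1 * pol Q b s - (pol Q b w'.1 + Q w'.1 * pol Q b s) with hδ
    have h1 : pol Q b s • (w.1 - w'.1) = δ • s := by
      rw [← sub_eq_zero]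
      rw [← sub_eq_zero] at h'
      rw [← h', hδ]
      module
    have h2 := congrArg (fun y => pol Q y s') h1
    simp only [psmul_left hQ, psub_left hQ, ((mem_pairPerp hQ).1 w.2).2.2, ((mem_pairPerp hQ).1 w'.2).2.2,
      hss, sub_zero, mul_zero, mul_one] at h2
    rw [← h2, zero_smul, smul_eq_zero] at h1
    exact Subtype.ext (sub_eq_zero.1 (h1.resolve_left (by rwa [pcomm])))
  have h1 := Nat.card_le_card_of_injective toB hinj
  rw [natCard_submodule hQ, h3, Nat.card_coe_set_eq] at h1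
  refine le_trans (Nat.pow_le_pow_right (by norm_num) ?_) h1
  omega

/-- The stabiliser of a singular `u` carries any totally singular line through `u` to any other. -/
theorem move_ts {P : Submodule F (ι → F)} (hP : NdOn Q P)
    (hd : 5 ≤ Module.finrank F P) {u b b' : ι → F} (hu : u ∈ P) (hu0 : u ≠ 0) (hQu : Q u = 0) (hb : b ∈ P)
    (hQb : Q b = 0) (hbu : pol Q b u = 0) (hbn : ∀ c : F, b ≠ c • u) (hb' : b' ∈ P) (hQb' : Q b' = 0)
    (hb'u : pol Q b' u = 0) (hb'n : ∀ c : F, b' ≠ c • u) :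
    ∃ g ∈ inner hQ P, act g u = u ∧ ∃ α κ : F, α ≠ 0 ∧ b' = α • act g b + κ • u := by
  classical
  by_cases hdep : ∃ α κ : F, b' = α • b + κ • u
  · obtain ⟨α, κ, h⟩ := hdep
    refine ⟨1, one_mem _, act_one u, α, κ, fun h0 => hb'n κ (by rw [h, h0, zero_smul, zero_add]), ?_⟩
    rw [act_one, h]
  simp only [not_exists] at hdep
  rcases eq_or_ne (pol Q b b') 0 with hγ | hγ
  · obtain ⟨y, hy, hyu, hyw, hyb⟩ := exists_dual_two hQ hP hu (P.sub_mem hb' hb) hb (u₂ := b' - b) (u₃ := b) (by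
      refine Fintype.linearIndependent_iff.2 fun g hg => ?_
      rw [Fin.sum_univ_three] at hg
      simp only [cons_val_zero, cons_val_one, cons_val] at hg
      have h1 : g 1 • b' = (g 1 - g 2) • b + (-g 0) • u := by
        rw [← sub_eq_zero, ← hg]
        module
      have h1z : g 1 = 0 := by
        by_contra hne
        exact hdep ((g 1)⁻¹ * (g 1 - g 2)) ((g 1)⁻¹ * -g 0) (by
          rw [← smul_smul, ← smul_smul, ← smul_add, ← h1, smul_smul, inv_mul_cancel₀ hne, one_smul])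
      have h2 : g 2 • b = (-g 0) • u := by
        rw [h1z, zero_smul, zero_sub, neg_smul] at h1
        linear_combination (norm := module) h1
      have h2z : g 2 = 0 := by
        by_contra hne
        exact hbn ((g 2)⁻¹ * -g 0) (by rw [← smul_smul, ← h2, smul_smul, inv_mul_cancel₀ hne, one_smul])
      have h0z : g 0 = 0 := by
        rw [h2z, zero_smul] at h2
        exact neg_eq_zero.1 ((smul_eq_zero.1 h2.symm).resolve_right hu0)
      intro i
      fin_cases i <;> assumption)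
    set s := y - Q y • b with hs
    have hsb : pol Q s b = 1 := by rw [hs, psub_left hQ, psmul_left hQ, hyb, pol_self_singular hQ hQb]; ring
    have hsb' : pol Q s b' = 1 := by
      rw [psub_right hQ, sub_eq_zero] at hyw
      rw [hs, psub_left hQ, psmul_left hQ, hyw, hyb, hγ]
      ring
    obtain ⟨g, hg, hgu, hgb⟩ := step hQ (u := u) hb hb' (P.sub_mem hy (P.smul_mem _ hb))
      (by rw [qsub hQ, qsmul hQ, hQb, psmul_right hQ, hyb]; ring) (hQb.trans hQb'.symm)
      (by rw [pcomm u b, hbu, pcomm u b', hb'u]) (by rw [psub_left hQ, psmul_left hQ, hyu, hbu]; ring)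
      (by rw [pcomm b, pcomm b', hsb, hsb']) (by rw [pcomm, hsb]; exact one_ne_zero)
    exact ⟨g, hg, hgu, 1, 0, one_ne_zero, by rw [hgb, one_smul, zero_smul, add_zero]⟩
  · obtain ⟨z, hz, hzu, hzb, hzb', hQz⟩ : ∃ z ∈ P, pol Q z u = 0 ∧ pol Q z b = 0 ∧ pol Q z b' = 0 ∧ Q z ≠ 0 := by
      by_contra hcon
      simp only [not_exists, not_and, not_not, ne_eq] at hcon
      set K := orthIn hQ (orthIn hQ (orthIn hQ P u) b) b' with hK
      have hKm : ∀ z ∈ K, z ∈ P ∧ pol Q z u = 0 ∧ pol Q z b = 0 ∧ pol Q z b' = 0 := fun z hz =>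
        ⟨hz.1.1.1, hz.1.1.2, hz.1.2, hz.2⟩
      have hKs : ∀ z ∈ K ⊔ Submodule.span F {b}, Q z = 0 := fun v hv => by
        obtain ⟨z, hz, w, hw, rfl⟩ := Submodule.mem_sup.1 hv
        obtain ⟨c, rfl⟩ := Submodule.mem_span_singleton.1 hw
        obtain ⟨h1, h2, h3, h4⟩ := hKm z hz
        rw [qadd hQ, hcon z h1 h2 h3 h4, qsmul hQ, hQb, psmul_right hQ, h3]
        ring
      have hlt : Module.finrank F K < Module.finrank F ↥(K ⊔ Submodule.span F {b}) :=
        Submodule.finrank_lt_finrank_of_lt (lt_of_le_of_ne le_sup_left fun h =>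
          hγ (hKm b (h.symm ▸ Submodule.mem_sup_right (Submodule.mem_span_singleton_self b))).2.2.2)
      have hle := two_mul_finrank_le hQ hP
        (sup_le (fun z hz => (hKm z hz).1) ((Submodule.span_singleton_le_iff_mem _ _).2 hb)) hKs
      have h1 := finrank_orthIn hQ P u
      have h2 := finrank_orthIn hQ (orthIn hQ P u) b
      have h4 := finrank_orthIn hQ (orthIn hQ (orthIn hQ P u) b) b'
      rw [← hK] at h4
      omega
    set k := -Q z / pol Q b b' with hk
    have hk0 : k ≠ 0 := div_ne_zero (neg_ne_zero.2 hQz) hγ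
    set s := b + z + k • b' with hs
    have hsb : pol Q s b = k * pol Q b b' := by
      rw [hs, padd_left hQ, padd_left hQ, psmul_left hQ, pol_self_singular hQ hQb, hzb, pcomm b' b]
      ring
    have hsb' : pol Q s b' = pol Q b b' := by
      rw [hs, padd_left hQ, padd_left hQ, psmul_left hQ, pol_self_singular hQ hQb', hzb']
      ring
    have hQs : Q s = 0 := by
      rw [hs, qadd hQ, qadd hQ, qsmul hQ, hQb, hQb', pcomm b z, hzb, padd_left hQ, psmul_right hQ,
        psmul_right hQ, hzb', hk]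
      field_simp
      ring
    obtain ⟨g, hg, hgu, hgb⟩ := step hQ (u := u) hb (P.smul_mem k hb') (P.add_mem (P.add_mem hb hz) (P.smul_mem k hb'))
      hQs (by rw [qsmul hQ, hQb, hQb', mul_zero]) (by rw [psmul_right hQ, pcomm u b, hbu, pcomm u b', hb'u, mul_zero])
      (by rw [padd_left hQ, padd_left hQ, psmul_left hQ, hbu, hzu, hb'u]; ring)
      (by rw [psmul_left hQ, pcomm b, hsb, pcomm b', hsb']) (by rw [pcomm, hsb]; exact mul_ne_zero hk0 hγ)
    refine ⟨g, hg, hgu, k⁻¹, 0, inv_ne_zero hk0, ?_⟩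
    rw [hgb, smul_smul, inv_mul_cancel₀ hk0, one_smul, zero_smul, add_zero]

end CfsgLib.PGroup.OrthOddThree
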