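import Cfsg.Agent.Lib.PGroup.OrthOddThree.Counts
import Cfsg.Agent.Lib.PGroup.OrthSeven.Main

/-!
The stabilisers in the unipotent radical in odd dimension over three elements: trivial, everything,
or a hyperplane.
-/

set_option autoImplicit false
set_option linter.unusedSectionVars false

namespace CfsgLib.PGroup.OrthOddThree

open scoped Matrix
open Matrix Cfsg.Geo CfsgLib.Perm.Asch CfsgLib.Perm.Trans CfsgLib.Perm.Trans.Quad CfsgLib.PGroup.OrthIndex
open CfsgLib.PGroup.OrthThreeIndex (three_eq_zero two_ne_zero' eq_cases)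
open CfsgLib.PGroup.OrthSeven (HypW)

variable {ι : Type} [Fintype ι] [DecidableEq ι] {F : Type*} [Field F] [Fintype F]
variable {Q : (ι → F) → F}

local notation "pol" => QuadraticMap.polar

/-- Three elements and dimension `2 * n + 3`. -/
structure OddThree (Q : (ι → F) → F) (n : ℕ) : Prop where
  three : Fintype.card F = 3
  dim : Fintype.card ι = 2 * n + 3
  big : 2 ≤ n

theorem arith_nonsingular {T K X : ℕ} (hK : 3 ≤ K) (hKT : 3 * K ≤ T)
    (hX : 2 * X + 3 * T + 2 ≤ 9 * (T * T))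
    (h : T * (T - 1) * (T * T) * (3 * K) ≤ 9 * (X * ((3 * K - 1) * (K - 1)))) : False := by
  obtain ⟨k, rfl⟩ : ∃ k, K = k + 3 := ⟨K - 3, by omega⟩
  rw [show 3 * (k + 3) - 1 = 3 * k + 8 by omega, show k + 3 - 1 = k + 2 by omega] at h
  have h1 : (3 * k + 9) * (3 * k + 8) ≤ T * (T - 1) := Nat.mul_le_mul (by omega) (by omega)
  have h2 : 9 * (k + 2) ≤ 2 * ((k + 3) * (k + 3)) := by nlinarith
  have hT : 0 < T * T := Nat.mul_pos (by omega) (by omega)
  generalize T * (T - 1) = A at h h1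
  generalize T * T = B at h hX hT
  have h3 : (2 * A * (3 * (k + 3))) * B < (81 * ((3 * k + 8) * (k + 2))) * B := by
    calc (2 * A * (3 * (k + 3))) * B = 2 * (A * B * (3 * (k + 3))) := by ring
      _ ≤ 2 * (9 * (X * ((3 * k + 8) * (k + 2)))) := Nat.mul_le_mul_left _ h
      _ = 2 * X * (9 * ((3 * k + 8) * (k + 2))) := by ring
      _ < 9 * B * (9 * ((3 * k + 8) * (k + 2))) := Nat.mul_lt_mul_of_pos_right (by omega) (by positivity)
      _ = _ := by ring
  have h4 : 81 * ((3 * k + 8) * (k + 2)) ≤ 2 * A * (3 * (k + 3)) := by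
    calc 81 * ((3 * k + 8) * (k + 2)) = 9 * (3 * k + 8) * (9 * (k + 2)) := by ring
      _ ≤ 9 * (3 * k + 8) * (2 * ((k + 3) * (k + 3))) := Nat.mul_le_mul_left _ h2
      _ = 2 * ((3 * k + 9) * (3 * k + 8)) * (3 * (k + 3)) := by ring
      _ ≤ _ := by gcongr
  exact absurd (Nat.lt_of_mul_lt_mul_right h3) (not_lt.2 h4)

theorem arith_singular {S L X : ℕ} (hS : S = 3 ∨ 9 ≤ S) (hL : 9 ≤ L) (hLS : L ≤ 3 * S)
    (hX : 2 * X + 9 * S + 2 ≤ 81 * (S * S))
    (h : (9 * (S * S) - 1) * (3 * (S * S - 1)) * L ≤ X * ((L - 1) * (L - 3))) : False := by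
  rcases hS with rfl | hS
  · obtain rfl : L = 9 := by omega
    omega
  have hSS : 81 ≤ S * S := Nat.mul_le_mul hS hS
  have e1 : (L - 1) * (L - 3) ≤ L * (3 * S) := Nat.mul_le_mul (by omega) (by omega)
  have h2 : 2 * ((9 * (S * S) - 1) * (3 * (S * S - 1))) * L ≤ 81 * (S * S) * (3 * S) * L := by
    calc 2 * ((9 * (S * S) - 1) * (3 * (S * S - 1))) * L
        = 2 * ((9 * (S * S) - 1) * (3 * (S * S - 1)) * L) := by ring
      _ ≤ 2 * (X * ((L - 1) * (L - 3))) := Nat.mul_le_mul_left _ h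
      _ = 2 * X * ((L - 1) * (L - 3)) := by ring
      _ ≤ 81 * (S * S) * (L * (3 * S)) := Nat.mul_le_mul (by omega) e1
      _ = _ := by ring
  have h3 := Nat.le_of_mul_le_mul_right h2 (by omega)
  have h4 : 8 * (S * S) * (2 * (S * S)) ≤ (9 * (S * S) - 1) * (3 * (S * S - 1)) :=
    Nat.mul_le_mul (by omega) (by omega)
  have h5 : 32 * S * (S * (S * S)) ≤ 243 * (S * (S * S)) := by
    calc 32 * S * (S * (S * S)) = 2 * (8 * (S * S) * (2 * (S * S))) := by ring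
      _ ≤ 2 * ((9 * (S * S) - 1) * (3 * (S * S - 1))) := Nat.mul_le_mul_left _ h4
      _ ≤ _ := h3
      _ = _ := by ring
  have h6 := Nat.le_of_mul_le_mul_right h5 (by positivity)
  omega

variable (hQ : IsNondegenerateQuadraticForm Q) {n : ℕ} (hM : OddThree Q n) (Φ : Frame Q)
variable {X : Type*} [MulAction ↥(eGroup Q) X]
include hQ hM

theorem W_dim (hP : Φ.P = ⊤) : Module.finrank F (Φ.W hQ) = 2 * n + 1 := by
  have := Φ.W_finrank hQ
  rw [hP, finrank_top, Module.finrank_fintype_fun_eq_card, hM.dim] at this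
  omega

theorem card_sub (K : Submodule F (ι → F)) : (K : Set (ι → F)).ncard = 3 ^ Module.finrank F K := by
  rw [← hM.three, ← natCard_submodule hQ, ← Nat.card_coe_set_eq]
  rfl

theorem smul_mem_dual {y : X} {u : ι → F} (hu : u ∈ Φ.dual hQ y) (c : F) : c • u ∈ Φ.dual hQ y := by
  rcases eq_cases hM.three c with rfl | rfl | rfl
  · rw [zero_smul]; exact Φ.zero_mem_dual hQ y
  · rwa [one_smul]
  · rw [neg_one_smul]; exact Φ.neg_mem_dual hQ hu

theorem span_dual (y : X) : (Submodule.span F (Φ.dual hQ y) : Set (ι → F)) = Φ.dual hQ y := by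
  refine subset_antisymm (fun v hv => ?_) Submodule.subset_span
  induction hv using Submodule.span_induction with
  | mem b hb => exact hb
  | zero => exact Φ.zero_mem_dual hQ y
  | add b c _ _ hb hc => exact Φ.add_mem_dual hQ hb hc
  | smul k b _ hb => exact smul_mem_dual hQ hM Φ hb k

omit hM in
/-- The orthogonal in `W` of a set. -/
def perpS (U : Set (ι → F)) : Submodule F (ι → F) := Φ.W hQ ⊓ qperp hQ (Submodule.span F U)

theorem mem_perpS_dual {y : X} {v : ι → F} (hv : v ∈ Φ.W hQ) :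
    v ∈ perpS hQ Φ (Φ.dual hQ y) ↔ el hQ Φ.e v • y = y := by
  refine ⟨fun h => Φ.fix_of_dual hQ hv fun u hu => ?_, fun h => ⟨hv, fun u hu => ?_⟩⟩
  · rw [h.2 u (Submodule.subset_span hu), AddChar.map_zero_eq_one]
  · refine psi_separates fun c => ?_
    have hu' : u ∈ Φ.dual hQ y := by rw [← span_dual hQ hM Φ y]; exact hu
    rw [mul_comm, ← psmul_right hQ]
    exact (smul_mem_dual hQ hM Φ hu' c).2 v hv h

theorem finrank_perp (hP : Φ.P = ⊤) (y : X) :
    Module.finrank F (perpS hQ Φ (Φ.dual hQ y)) + Module.finrank F (Submodule.span F (Φ.dual hQ y)) =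
      2 * n + 1 := by
  refine Nat.pow_right_injective (le_refl 2 |>.trans (by norm_num : 2 ≤ 3)) ?_
  have e : (perpS hQ Φ (Φ.dual hQ y) : Set (ι → F)) = Subtype.val '' (Φ.stab hQ y : Set (Φ.W hQ)) := by
    ext v
    constructor
    · intro h
      exact ⟨⟨v, h.1⟩, (mem_perpS_dual hQ hM Φ h.1).1 h, rfl⟩
    · rintro ⟨a, ha, rfl⟩
      exact (mem_perpS_dual hQ hM Φ a.2).2 ha
  show 3 ^ (_ + _) = 3 ^ (2 * n + 1)
  rw [pow_add, ← card_sub hQ hM, ← card_sub hQ hM, span_dual hQ hM, e,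
    Set.ncard_image_of_injective _ Subtype.val_injective, Φ.dual_card hQ y, ← Nat.card_coe_set_eq, mul_comm,
    ← hM.three, ← W_dim hQ hM Φ hP, ← natCard_submodule hQ,
    AddSubgroup.card_eq_card_quotient_mul_card_addSubgroup (Φ.stab hQ y)]
  rfl

/-- A small subspace attached equivariantly to the duals forces many points. -/
theorem subspace_bound (hP : Φ.P = ⊤) [Finite X]
    (hsmall : 2 * Nat.card X + 3 * 3 ^ n + 2 ≤ 9 * (3 ^ n * 3 ^ n)) (y : X)
    (Λ : Set (ι → F) → Submodule F (ι → F)) (ℓ : ℕ) (hl : 2 ≤ ℓ) (hln : ℓ ≤ n)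
    (hΛ : ∀ U ∈ Φ.duals hQ y, Λ U ≤ Φ.W hQ ∧ Module.finrank F (Λ U) = ℓ)
    (hequiv : ∀ g ∈ inner hQ (Φ.W hQ), ∀ v ∈ Λ (Φ.dual hQ y), act g v ∈ Λ (act g '' Φ.dual hQ y))
    (hD : 3 ^ ℓ ≤ (Φ.dual hQ y).ncard) : False := by
  classical
  have hWd := W_dim hQ hM Φ hP
  have hn := hM.big
  have hinner : ∀ {g : ↥(eGroup Q)}, g ∈ inner hQ (Φ.W hQ) → act g '' Φ.dual hQ y ∈ Φ.duals hQ y :=
    fun {g} hg => ⟨g, 1, Φ.mem_inner_levi hQ hg, by
      rw [(Φ.mem_inner_levi hQ hg).dual y]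
      refine Set.image_congr fun a ha => ?_
      rw [Φ.leviMap_of_mem hQ (inner_maps hQ hg ha.1), inv_one, one_smul]⟩
  have hself : Φ.dual hQ y ∈ Φ.duals hQ y := by
    have := hinner (one_mem (inner hQ (Φ.W hQ)))
    simpa [act_one] using this
  obtain ⟨hΛW, hΛd⟩ := hΛ _ hself
  obtain ⟨j, rfl⟩ : ∃ j, ℓ = j + 1 := ⟨ℓ - 1, by omega⟩
  by_cases hns : ∃ a ∈ Λ (Φ.dual hQ y), Q a ≠ 0
  · obtain ⟨a, ha, hQa⟩ := hns
    have ha0 : a ≠ 0 := fun h => hQa (by rw [h, qzero hQ])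
    obtain ⟨b, hb, hb0⟩ := Submodule.exists_mem_ne_zero_of_ne_bot (p := orthIn hQ (Λ (Φ.dual hQ y)) a) (fun h => by
      have := finrank_orthIn hQ (Λ (Φ.dual hQ y)) a
      rw [h, finrank_bot, hΛd] at this
      omega)
    obtain ⟨hbΛ, hba⟩ := (mem_orthIn hQ).1 hb
    let G : (ι → F) → Set (ι → F) := fun a' =>
      {b' | ∃ g ∈ inner hQ (Φ.W hQ), act g a = a' ∧ act g b = b'}
    let mem : (ι → F) × (ι → F) → Set (ι → F) → Prop := fun p U =>
      p.1 ∈ Λ U ∧ Q p.1 ≠ 0 ∧ p.2 ∈ Λ U ∧ p.2 ≠ 0 ∧ pol Q p.2 p.1 = 0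
    have hT : ∀ p ∈ {p : (ι → F) × (ι → F) | p.1 ∈ sphere Q (Φ.W hQ) (Q a) \ {0} ∧ p.2 ∈ G p.1},
        ∃ U ∈ Φ.duals hQ y, mem p U := by
      rintro ⟨a', b'⟩ ⟨⟨⟨-, hQa'⟩, -⟩, g, hg, rfl, rfl⟩
      exact ⟨_, hinner hg, hequiv g hg a ha, by rw [show Q (act g a) = Q a from Q_act g a]; exact hQa,
        hequiv g hg b hbΛ, fun h0 => hb0 (act_injective g (by rw [act_zero]; exact h0)),
        (pol_act g b a).trans hba⟩
    have h1 := Φ.duals_tuples hQ (Ω := Set.univ) Set.finite_univ y (fun g c _ a _ => Set.mem_univ _)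
      mem _ hT ((3 ^ (j + 1) - 1) * (3 ^ j - 1)) fun U hU => by
        obtain ⟨-, hd⟩ := hΛ U hU
        refine le_trans (Set.ncard_le_ncard (t := {p : (ι → F) × (ι → F) |
            p.1 ∈ {a' | a' ∈ Λ U ∧ Q a' ≠ 0} ∧ p.2 ∈ {b' | b' ∈ orthIn hQ (Λ U) p.1 ∧ b' ≠ 0}})
          (fun p hp => ⟨⟨hp.1, hp.2.1⟩, (mem_orthIn hQ).2 ⟨hp.2.2.1, hp.2.2.2.2⟩, hp.2.2.2.1⟩) (Set.toFinite _)) ?_
        refine ((OrthThreeIndex.ncard_pairs hQ {a' : ι → F | a' ∈ Λ U ∧ Q a' ≠ 0}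
          (fun a' => {b' : ι → F | b' ∈ orthIn hQ (Λ U) a' ∧ b' ≠ 0}) (3 ^ j - 1)).1
            fun a' ⟨ha', hQa'⟩ => ?_).trans (Nat.mul_le_mul_right _ ?_)
        · rw [show {b' : ι → F | b' ∈ orthIn hQ (Λ U) a' ∧ b' ≠ 0} = (orthIn hQ (Λ U) a' : Set (ι → F)) \ {0} from
            Set.ext fun b' => Iff.rfl, Set.ncard_sdiff_singleton_of_mem (orthIn hQ (Λ U) a').zero_mem,
            card_sub hQ hM]
          refine Nat.sub_le_sub_right (Nat.pow_le_pow_right (by norm_num) ?_) 1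
          have hlt : Module.finrank F (orthIn hQ (Λ U) a') < Module.finrank F (Λ U) :=
            Submodule.finrank_lt_finrank_of_lt (lt_of_le_of_ne inf_le_left fun e => by
              have h7 : a' ∈ orthIn hQ (Λ U) a' := by rw [e]; exact ha'
              have h8 := ((mem_orthIn hQ).1 h7).2
              rw [pself hQ] at h8
              exact mul_ne_zero (two_ne_zero' hM.three) hQa' h8)
          omega
        · refine (Set.ncard_le_ncard (t := (Λ U : Set (ι → F)) \ {0})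
            (fun v hv => ⟨hv.1, fun h0 => hv.2 (by rw [Set.mem_singleton_iff.1 h0, qzero hQ])⟩) (Set.toFinite _)).trans ?_
          rw [Set.ncard_sdiff_singleton_of_mem (Λ U).zero_mem, card_sub hQ hM, hd]
    have hG : ∀ a' ∈ sphere Q (Φ.W hQ) (Q a) \ {0}, 3 ^ (2 * n - 2) ≤ (G a').ncard := by
      rintro a' ⟨⟨ha', hQa'⟩, ha'0⟩
      obtain ⟨g₀, hg₀, hg₀a⟩ := move_value hQ hM.three (Φ.W_nd hQ) (by omega) (hΛW ha) ha' ha0 ha'0 hQa'.symm
      have h2 := orbit_orth hQ hM.three (Φ.W_nd hQ) (by omega) (hΛW ha) hQa (hΛW hbΛ) hba hb0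
      rw [hWd, show 2 * n + 1 - 3 = 2 * n - 2 by omega] at h2
      refine h2.trans (Set.ncard_le_ncard_of_injOn (act g₀) ?_ (act_injective g₀).injOn (Set.toFinite _))
      rintro v ⟨g, hg, hga, hgb⟩
      exact ⟨g₀ * g, mul_mem hg₀ hg, by rw [act_mul, hga, hg₀a], by rw [act_mul, hgb]⟩
    have h2 := (OrthThreeIndex.ncard_pairs hQ (sphere Q (Φ.W hQ) (Q a) \ {0}) G (3 ^ (2 * n - 2))).2 hG
    rw [Set.ncard_univ] at h1
    obtain ⟨hC, -⟩ := sphere_ge hQ hM.three (Q a) n (Φ.W_nd hQ) hWd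
    rw [Set.sdiff_singleton_eq_self fun h0 => hQa (by rw [← h0.2, qzero hQ])] at h1 h2
    rw [show 3 ^ (2 * n) = 3 ^ n * 3 ^ n by rw [← pow_add]; ring_nf] at hC
    have e : 9 * 3 ^ (2 * n - 2) = 3 ^ n * 3 ^ n := by
      rw [← pow_add, show n + n = 2 + (2 * n - 2) by omega, pow_add]
      norm_num
    rw [pow_succ'] at h1 hD
    have hKT : 3 * 3 ^ j ≤ 3 ^ n := by
      rw [← pow_succ']
      exact Nat.pow_le_pow_right (by norm_num) hln
    refine arith_nonsingular (K := 3 ^ j) (Nat.le_self_pow (by omega) 3) hKT hsmall ?_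
    set T := 3 ^ n
    have hC' : T * (T - 1) ≤ (sphere Q (Φ.W hQ) (Q a)).ncard := by
      rw [Nat.mul_sub, mul_one]
      omega
    calc T * (T - 1) * (T * T) * (3 * 3 ^ j)
        ≤ (sphere Q (Φ.W hQ) (Q a)).ncard * (9 * 3 ^ (2 * n - 2)) * (Φ.dual hQ y).ncard := by
          rw [e]
          gcongr
      _ = 9 * ((sphere Q (Φ.W hQ) (Q a)).ncard * 3 ^ (2 * n - 2) * (Φ.dual hQ y).ncard) := by ring
      _ ≤ _ := Nat.mul_le_mul_left _ ((Nat.mul_le_mul_right _ h2).trans h1)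
  · simp only [not_exists, not_and, not_not, ne_eq] at hns
    obtain ⟨u, hu, hu0⟩ := Submodule.exists_mem_ne_zero_of_ne_bot (p := Λ (Φ.dual hQ y)) (fun h => by
      rw [h, finrank_bot] at hΛd
      omega)
    obtain ⟨b, hb, hbn⟩ := SetLike.not_le_iff_exists.1 (show ¬ Λ (Φ.dual hQ y) ≤ Submodule.span F {u} from fun h => by
      have := Submodule.finrank_mono h
      rw [finrank_span_singleton hu0, hΛd] at this
      omega)
    have hbu : ∀ c : F, b ≠ c • u := fun c h => hbn (Submodule.mem_span_singleton.2 ⟨c, h.symm⟩)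
    let G : (ι → F) → Set (ι → F) := fun u' =>
      {b' | b' ∈ Φ.W hQ ∧ Q b' = 0 ∧ pol Q b' u' = 0 ∧ ∀ c : F, b' ≠ c • u'}
    let mem : (ι → F) × (ι → F) → Set (ι → F) → Prop := fun p U =>
      p.1 ∈ Λ U ∧ p.1 ≠ 0 ∧ p.2 ∈ Λ U ∧ ∀ c : F, p.2 ≠ c • p.1
    have hT : ∀ p ∈ {p : (ι → F) × (ι → F) | p.1 ∈ sphere Q (Φ.W hQ) 0 \ {0} ∧ p.2 ∈ G p.1},
        ∃ U ∈ Φ.duals hQ y, mem p U := by
      rintro ⟨u', b'⟩ ⟨⟨⟨hu', hQu'⟩, hu'0⟩, hb', hQb', hpol, hn'⟩
      obtain ⟨g₁, hg₁, hg₁u⟩ := move_value hQ hM.three (Φ.W_nd hQ) (by omega) (hΛW hu) hu' hu0 hu'0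
        ((hns u hu).trans hQu'.symm)
      obtain ⟨g₂, hg₂, hg₂u, α, κ, -, hb'e⟩ := move_ts hQ (Φ.W_nd hQ) (by omega) hu' hu'0 hQu'
        (inner_maps hQ hg₁ (hΛW hb)) (by rw [Q_act (Q := Q)]; exact hns b hb)
        (by rw [← hg₁u, pol_act]; exact pol_eq_zero_of_ts hQ hns hb hu)
        (fun c h => hbu c (act_injective g₁ (by rw [h, act_smul, hg₁u]))) hb' hQb' hpol hn'
      have hg := mul_mem hg₂ hg₁
      have hu1 : u' ∈ Λ (act (g₂ * g₁) '' Φ.dual hQ y) := by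
        have := hequiv _ hg u hu
        rwa [act_mul, hg₁u, hg₂u] at this
      refine ⟨_, hinner hg, hu1, hu'0, ?_, hn'⟩
      show b' ∈ Λ (act (g₂ * g₁) '' Φ.dual hQ y)
      rw [show b' = _ from hb'e, ← act_mul]
      exact Submodule.add_mem _ (Submodule.smul_mem _ _ (hequiv _ hg b hb)) (Submodule.smul_mem _ _ hu1)
    have h1 := Φ.duals_tuples hQ (Ω := Set.univ) Set.finite_univ y (fun g c _ a _ => Set.mem_univ _)
      mem _ hT ((3 ^ (j + 1) - 1) * (3 ^ (j + 1) - 3)) fun U hU => by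
        obtain ⟨-, hd⟩ := hΛ U hU
        refine le_trans (Set.ncard_le_ncard (t := {p : (ι → F) × (ι → F) |
            p.1 ∈ (Λ U : Set (ι → F)) \ {0} ∧ p.2 ∈ (Λ U : Set (ι → F)) \ Submodule.span F {p.1}})
          (fun p hp => ⟨⟨hp.1, hp.2.1⟩, hp.2.2.1, fun h => by
            obtain ⟨c, hc⟩ := Submodule.mem_span_singleton.1 h
            exact hp.2.2.2 c hc.symm⟩) (Set.toFinite _)) ?_
        refine ((OrthThreeIndex.ncard_pairs hQ ((Λ U : Set (ι → F)) \ {0})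
          (fun u' => (Λ U : Set (ι → F)) \ Submodule.span F {u'}) (3 ^ (j + 1) - 3)).1
            fun u' ⟨hu', hu'0⟩ => ?_).trans (Nat.mul_le_mul_right _ ?_)
        · rw [Set.ncard_sdiff (SetLike.coe_subset_coe.2 ((Submodule.span_singleton_le_iff_mem _ _).2 hu'))
            (Set.toFinite _), card_sub hQ hM, card_sub hQ hM, hd, finrank_span_singleton (show u' ≠ 0 from hu'0),
            pow_one]
        · rw [Set.ncard_sdiff_singleton_of_mem (Λ U).zero_mem, card_sub hQ hM, hd]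
    obtain ⟨i, rfl⟩ : ∃ i, n = i + 1 := ⟨n - 1, by omega⟩
    have hG : ∀ u' ∈ sphere Q (Φ.W hQ) 0 \ {0}, 3 * (3 ^ i * 3 ^ i - 1) ≤ (G u').ncard := by
      rintro u' ⟨⟨hu', hQu'⟩, hu'0⟩
      obtain ⟨f', hf', hQf', huf⟩ := exists_partner hQ (Φ.W_nd hQ) hu' hu'0 hQu'
      have h2 := card_orth_singular hQ hu' hf' hQu' hQf' huf
      have h3 := (sphere_ge hQ hM.three 0 i (pair_nd hQ hu' hf' hQu' hQf' huf (Φ.W_nd hQ))
        (by have := pair_finrank_eq hQ hu' hf' hQu' hQf' huf; omega)).2 rfl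
      rw [show 3 ^ (2 * i) = 3 ^ i * 3 ^ i by rw [← pow_add]; ring_nf] at h3
      rw [hM.three] at h2
      exact le_trans (Nat.mul_le_mul_left _ (Nat.sub_le_sub_right h3 1)) h2
    have h2 := (OrthThreeIndex.ncard_pairs hQ (sphere Q (Φ.W hQ) 0 \ {0}) G (3 * (3 ^ i * 3 ^ i - 1))).2 hG
    rw [Set.ncard_univ] at h1
    have hC := (sphere_ge hQ hM.three 0 (i + 1) (Φ.W_nd hQ) hWd).2 rfl
    rw [Set.ncard_sdiff_singleton_of_mem
      (show (0 : ι → F) ∈ sphere Q (Φ.W hQ) 0 from ⟨(Φ.W hQ).zero_mem, qzero hQ⟩)] at h2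
    have hsmall' : 2 * Nat.card X + 9 * 3 ^ i + 2 ≤ 81 * (3 ^ i * 3 ^ i) := by
      rw [pow_succ] at hsmall
      linarith
    refine arith_singular (L := 3 ^ (j + 1)) ?_ ?_ ?_ hsmall' ?_
    · rcases Nat.lt_or_ge i 2 with hi | hi
      · left; rw [show i = 1 by omega, pow_one]
      · exact Or.inr ((Nat.pow_le_pow_right (by norm_num) hi).trans' (by norm_num))
    · exact (Nat.pow_le_pow_right (by norm_num) hl).trans' (by norm_num)
    · rw [← pow_succ']
      exact Nat.pow_le_pow_right (by norm_num) hln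
    calc (9 * (3 ^ i * 3 ^ i) - 1) * (3 * (3 ^ i * 3 ^ i - 1)) * 3 ^ (j + 1)
        ≤ ((sphere Q (Φ.W hQ) 0).ncard - 1) * (3 * (3 ^ i * 3 ^ i - 1)) * (Φ.dual hQ y).ncard := by
          refine Nat.mul_le_mul (Nat.mul_le_mul_right _ (Nat.sub_le_sub_right ?_ 1)) hD
          refine le_trans (le_of_eq ?_) hC
          rw [show 2 * (i + 1) = 2 + (i + i) by ring, pow_add, pow_add]
          norm_num
      _ ≤ _ := (Nat.mul_le_mul_right _ h2).trans h1

/-- A dual is zero, a line, or everything. -/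
theorem dual_cases (hP : Φ.P = ⊤) [Finite X]
    (hsmall : 2 * Nat.card X + 3 * 3 ^ n + 2 ≤ 9 * (3 ^ n * 3 ^ n)) (y : X) :
    (Φ.dual hQ y).ncard = 1 ∨ (Φ.dual hQ y).ncard = 3 ∨ (Φ.dual hQ y).ncard = 3 ^ (2 * n + 1) := by
  classical
  have hn := hM.big
  have hD : (Φ.dual hQ y).ncard = 3 ^ Module.finrank F (Submodule.span F (Φ.dual hQ y)) := by
    rw [← card_sub hQ hM, span_dual hQ hM]
  have hsum := finrank_perp hQ hM Φ hP y
  set i := Module.finrank F (Submodule.span F (Φ.dual hQ y)) with hi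
  set j := Module.finrank F (perpS hQ Φ (Φ.dual hQ y)) with hj
  by_contra hcon
  simp only [not_or, hD] at hcon
  have hi0 : i ≠ 0 := fun h => hcon.1 (by rw [h, pow_zero])
  have hi1 : i ≠ 1 := fun h => hcon.2.1 (by rw [h, pow_one])
  have hj0 : j ≠ 0 := fun h => hcon.2.2 (by congr 1; omega)
  have hdim : ∀ U ∈ Φ.duals hQ y, Module.finrank F (Submodule.span F U) = i ∧
      Module.finrank F (perpS hQ Φ U) = j ∧ U ⊆ (Φ.W hQ : Set (ι → F)) := fun U ⟨g, c, hg, hU⟩ => by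
    subst hU
    have h1 : Module.finrank F (Submodule.span F (Φ.dual hQ (g • y))) = i := by
      refine Nat.pow_right_injective (le_refl 2 |>.trans (by norm_num : 2 ≤ 3)) ?_
      show 3 ^ _ = 3 ^ i
      rw [← card_sub hQ hM, span_dual hQ hM, hg.dual_ncard y, hD]
    have h2 := finrank_perp hQ hM Φ hP (g • y)
    rw [h1] at h2
    exact ⟨h1, by omega, fun u hu => hu.1⟩
  rcases le_or_gt i n with hin | hin
  · exact subspace_bound hQ hM Φ hP hsmall y (fun U => Submodule.span F U) i (by omega) hin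
      (fun U hU => ⟨Submodule.span_le.2 (hdim U hU).2.2, (hdim U hU).1⟩) (fun g hg v hv => Submodule.subset_span
        ⟨v, by rw [← span_dual hQ hM]; exact hv, rfl⟩) hD.ge
  rcases Nat.lt_or_ge j 2 with hj2 | hj2
  · -- a vector of the orthogonal
    obtain ⟨v, hv, hv0⟩ := Submodule.exists_mem_ne_zero_of_ne_bot (p := perpS hQ Φ (Φ.dual hQ y)) (fun h => by
      rw [hj, h, finrank_bot] at hj0
      exact hj0 rfl)
    have hWd := W_dim hQ hM Φ hP
    have h1 := Φ.duals_tuples hQ (Ω := Set.univ) Set.finite_univ y (fun g c _ a _ => Set.mem_univ _)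
      (fun w U => w ∈ perpS hQ Φ U ∧ w ≠ 0) (sphere Q (Φ.W hQ) (Q v) \ {0})
      (fun w ⟨⟨hw, hQw⟩, hw0⟩ => by
        obtain ⟨g, hg, hgv⟩ := move_value hQ hM.three (Φ.W_nd hQ) (by omega) hv.1 hw hv0 hw0 hQw.symm
        refine ⟨_, ⟨g, 1, Φ.mem_inner_levi hQ hg, rfl⟩, ⟨hw, fun u hu => ?_⟩, hw0⟩
        rw [← SetLike.mem_coe, span_dual hQ hM, (Φ.mem_inner_levi hQ hg).dual y] at hu
        obtain ⟨u', hu', rfl⟩ := hu
        rw [Φ.leviMap_of_mem hQ (inner_maps hQ hg hu'.1), inv_one, one_smul, ← hgv, pol_act]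
        exact hv.2 u' (Submodule.subset_span hu')) 2 fun U hU => by
          rw [show {t : ι → F | t ∈ perpS hQ Φ U ∧ t ≠ 0} = (perpS hQ Φ U : Set (ι → F)) \ {0} from
            Set.ext fun t => Iff.rfl, Set.ncard_sdiff_singleton_of_mem (perpS hQ Φ U).zero_mem, card_sub hQ hM,
            (hdim U hU).2.1, show j = 1 by omega, pow_one]
    rw [Set.ncard_univ, hD, show i = n + n by omega, pow_add] at h1
    have h2 := sphere_ne_zero_card hQ (Φ.W hQ) (Q v)
    obtain ⟨h3, -⟩ := sphere_ge hQ hM.three (Q v) n (Φ.W_nd hQ) hWd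
    rw [two_mul, pow_add] at h3
    have hT : 9 ≤ 3 ^ n := (Nat.pow_le_pow_right (by norm_num) hn).trans' (by norm_num)
    generalize 3 ^ n = T at *
    have h4 : 9 * T ≤ T * T := Nat.mul_le_mul_right _ hT
    have h5 : 9 * (T * T) ≤ (sphere Q (Φ.W hQ) (Q v) \ {0}).ncard * (T * T) := Nat.mul_le_mul_right _ (by omega)
    omega
  · refine subspace_bound hQ hM Φ hP hsmall y (fun U => perpS hQ Φ U) j hj2 (by omega)
      (fun U hU => ⟨inf_le_left, (hdim U hU).2.1⟩) (fun g hg v hv => ⟨inner_maps hQ hg hv.1, fun u hu => ?_⟩)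
      (le_trans (Nat.pow_le_pow_right (by norm_num) (by omega)) hD.ge)
    have hle : Submodule.span F (act g '' Φ.dual hQ y) ≤ LinearMap.ker (pfl hQ (act g v)) :=
      Submodule.span_le.2 (by
        rintro _ ⟨u', hu', rfl⟩
        show pol Q (act g u') (act g v) = 0
        rw [pol_act, pcomm]
        exact hv.2 u' (Submodule.subset_span hu'))
    rw [pcomm]
    exact hle hu

/-- The three possible stars. -/
theorem classify (hP : Φ.P = ⊤) [Finite X]
    (hsmall : 2 * Nat.card X + 3 * 3 ^ n + 2 ≤ 9 * (3 ^ n * 3 ^ n)) (x : X) :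
    Full hQ x Φ.e ∨ ((Φ.dual hQ x).ncard = 3 ∧ HypW hQ Φ x) ∨ Triv hQ x Φ.e := by
  have hfix : ∀ v ∈ Φ.W hQ, v ∈ perpS hQ Φ (Φ.dual hQ x) → el hQ Φ.e v • x = x :=
    fun v hv h => (mem_perpS_dual hQ hM Φ hv).1 h
  have h0 := Φ.zero_mem_dual hQ x
  rcases dual_cases hQ hM Φ hP hsmall x with h | h | h
  · refine Or.inl (Φ.full_of_W hQ hP fun a ha => Φ.fix_of_dual hQ ha fun u hu => ?_)
    rw [(Set.ncard_le_one (Set.toFinite _)).1 h.le u hu 0 h0, pzero_right hQ, AddChar.map_zero_eq_one]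
  · obtain ⟨u, hu, hu0⟩ := Set.exists_ne_of_one_lt_ncard (s := Φ.dual hQ x) (by omega) 0
    refine Or.inr (Or.inl ⟨h, u, hu.1, hu0, fun a ha hau => ⟨Φ.pol_e hQ ha, hfix a ha ⟨ha, fun v hv => ?_⟩⟩⟩)
    have heq : Submodule.span F {u} = Submodule.span F (Φ.dual hQ x) :=
      Submodule.eq_of_le_of_finrank_le (Submodule.span_mono (Set.singleton_subset_iff.2 hu)) (by
        rw [finrank_span_singleton hu0]
        refine (Nat.pow_le_pow_iff_right (a := 3) (by norm_num)).1 ?_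
        rw [← card_sub hQ hM, span_dual hQ hM, h, pow_one])
    rw [← heq] at hv
    obtain ⟨c, rfl⟩ := Submodule.mem_span_singleton.1 hv
    rw [psmul_right hQ, hau, mul_zero]
  · refine Or.inr (Or.inr fun a ha => ?_)
    have ha' : Φ.proj a ∈ Φ.W hQ := Φ.proj_mem hQ (by rw [hP]; exact Submodule.mem_top) (by rw [pcomm, ha.1])
    have h1 := finrank_perp hQ hM Φ hP x
    have h2 : Module.finrank F (Submodule.span F (Φ.dual hQ x)) = 2 * n + 1 := by
      refine Nat.pow_right_injective (le_refl 2 |>.trans (by norm_num : 2 ≤ 3)) ?_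
      show 3 ^ _ = 3 ^ (2 * n + 1)
      rw [← card_sub hQ hM, span_dual hQ hM, h]
    have h3 : perpS hQ Φ (Φ.dual hQ x) = ⊥ := Submodule.finrank_eq_zero.1 (by omega)
    have h4 : Φ.proj a ∈ perpS hQ Φ (Φ.dual hQ x) :=
      (mem_perpS_dual hQ hM Φ ha').2 (by rw [Φ.el_proj hQ ha.1]; exact ha.2)
    rw [h3, Submodule.mem_bot] at h4
    exact ⟨pol Q a Φ.f, sub_eq_zero.1 h4⟩

end CfsgLib.PGroup.OrthOddThree
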