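import Cfsg.Agent.Lib.PGroup.OrthOddThree.NoTriv
import Cfsg.Agent.Lib.Perm.Trans.QuadSimple

/-!
The minimal index of a proper subgroup of an orthogonal group in odd dimension over three elements.
-/

set_option autoImplicit false
set_option linter.unusedSectionVars false

namespace CfsgLib.PGroup.OrthOddThree

open scoped Matrix
open Matrix Cfsg.Geo CfsgLib.Perm.Asch CfsgLib.Perm.Trans CfsgLib.Perm.Trans.Quad CfsgLib.PGroup.OrthIndex
open CfsgLib.PGroup.OrthThreeIndex (three_eq_zero two_ne_zero' eq_cases)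
open CfsgLib.PGroup.OrthSeven (HypW Wide flip_star full_of_pair)

variable {ι : Type} [Fintype ι] [DecidableEq ι] {F : Type*} [Field F] [Fintype F]
variable {Q : (ι → F) → F}

local notation "pol" => QuadraticMap.polar

variable (hQ : IsNondegenerateQuadraticForm Q) {n : ℕ}
include hQ

/-- A subspace of codimension two in `W` has a nonsingular vector. -/
theorem exists_nonsingular_big (hM : OddThree Q n) (Φ : Frame Q) (hP : Φ.P = ⊤) {L : Submodule F (ι → F)}
    (hL : L ≤ Φ.W hQ) (hd : 2 * n - 1 ≤ Module.finrank F L) : ∃ k ∈ L, Q k ≠ 0 := by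
  by_contra hcon
  simp only [not_exists, not_and, not_not, ne_eq] at hcon
  have h1 := two_mul_finrank_le hQ (Φ.W_nd hQ) hL hcon
  have h2 := W_dim hQ hM Φ hP
  have := hM.big
  omega

/-- A proper subgroup of the Eichler group has large index. -/
theorem index_bound (hM : OddThree Q n) {H : Subgroup ↥(eGroup Q)} (hH : H ≠ ⊤) :
    9 * (3 ^ n * 3 ^ n) ≤ 2 * H.index + 3 * 3 ^ n := by
  classical
  by_contra hlt
  have hn := hM.big
  have hcard := hM.dim
  have h2 : (2 : F) ≠ 0 := two_ne_zero' hM.three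
  set X := ↥(eGroup Q) ⧸ H
  have hsmall : 2 * Nat.card X + 3 * 3 ^ n + 2 ≤ 9 * (3 ^ n * 3 ^ n) := by
    have h1 : 3 ^ n % 2 = 1 := Nat.odd_iff.1 (Odd.pow (by decide))
    have h3 : (3 ^ n * 3 ^ n) % 2 = 1 := by rw [Nat.mul_mod, h1]
    show 2 * H.index + 3 * 3 ^ n + 2 ≤ _
    omega
  set x : X := QuotientGroup.mk 1
  have hnofull : ¬ ∀ z, Q z = 0 → z ≠ 0 → Full hQ x z := fun h => by
    refine hH (eq_top_iff.2 fun g _ => ?_)
    have h1 : (QuotientGroup.mk (g * 1) : X) = QuotientGroup.mk 1 := fix_of_all_full hQ h g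
    rwa [QuotientGroup.eq, mul_one, mul_one, inv_mem_iff] at h1
  have hw : ∀ Ψ : Frame Q, Ψ.P = ⊤ → Full hQ x Ψ.e ∨ HypW hQ Ψ x := fun Ψ hΨ => by
    rcases classify hQ hM Ψ hΨ hsmall x with h | ⟨-, h⟩ | h
    · exact Or.inl h
    · exact Or.inr h
    · exact (not_triv hQ hM hsmall x Ψ.hQe (Ψ.e_ne hQ) h).elim
  have hbig : ∀ Ψ : Frame Q, Ψ.P = ⊤ → ∃ L : Submodule F (ι → F), L ≤ Ψ.W hQ ∧ 2 * n ≤ Module.finrank F L ∧
      ∀ a ∈ L, Star hQ x Ψ.e a := fun Ψ hΨ => by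
    have hd := W_dim hQ hM Ψ hΨ
    rcases hw Ψ hΨ with h | ⟨u, -, -, h⟩
    · exact ⟨Ψ.W hQ, le_rfl, by omega, fun a ha => h.star (Ψ.pol_e hQ ha)⟩
    · refine ⟨orthIn hQ (Ψ.W hQ) u, inf_le_left, ?_,
        fun a ha => h a ((mem_orthIn hQ).1 ha).1 ((mem_orthIn hQ).1 ha).2⟩
      have := finrank_orthIn hQ (Ψ.W hQ) u
      omega
  have hwide : ∀ Ψ : Frame Q, Ψ.P = ⊤ → Wide hQ Ψ x := fun Ψ hΨ =>
    let ⟨L, hL, hd, hs⟩ := hbig Ψ hΨ
    ⟨L, hL, by omega, hs⟩
  obtain ⟨z₀, -, hz₀0, hQz₀⟩ := exists_singular_mem hQ (⊤ : Submodule F (ι → F))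
    (by rw [finrank_top, Module.finrank_fintype_fun_eq_card]; omega)
  have hfull : ∃ z, Q z = 0 ∧ z ≠ 0 ∧ Full hQ x z := by
    obtain ⟨Φ, hP, -⟩ := exists_frame hQ (by omega) hQz₀ hz₀0
    rcases hw Φ hP with h | ⟨u, hu, hu0, heu⟩
    · exact ⟨Φ.e, Φ.hQe, Φ.e_ne hQ, h⟩
    obtain ⟨L, hL', hLd, hLs⟩ := hbig (Φ.symm (Φ.hfe hQ)) hP
    have hL : L ≤ Φ.W hQ := fun a ha => (Φ.mem_W_symm hQ).1 (hL' ha)
    have hd := finrank_orthIn hQ L u
    obtain ⟨k, hk, hQk⟩ := exists_nonsingular_big hQ hM Φ hP (L := orthIn hQ L u) (inf_le_left.trans hL) (by omega)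
    obtain ⟨hkL, hku⟩ := (mem_orthIn hQ).1 hk
    exact full_of_pair hQ Φ h2 hP (by omega) hwide hu hu0 heu hL hLs ((mem_orthIn hQ).2 ⟨hL hkL, hku⟩) hkL hQk
  have hspread : ∀ z w, Q z = 0 → Q w = 0 → Full hQ x z → pol Q z w ≠ 0 → Full hQ x w := by
    intro z w hz hw' hzF hzw
    have hwQ : Q ((pol Q z w)⁻¹ • w) = 0 := by rw [qsmul hQ, hw', mul_zero]
    have hzw' : pol Q ((pol Q z w)⁻¹ • w) z = 1 := by
      rw [psmul_left hQ, pcomm w z, inv_mul_cancel₀ hzw]
    set Φ : Frame Q := topFrame hQ (by omega) hwQ hz hzw'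
    obtain ⟨L, hL, hLd, hLs⟩ := hbig Φ rfl
    obtain ⟨k, hk, hQk⟩ := exists_nonsingular_big hQ hM Φ rfl hL (by omega)
    refine Full.of_smul hw' (inv_ne_zero hzw) (Φ.full_of_W hQ rfl fun a ha => ?_)
    exact (flip_star hQ Φ h2 hL le_rfl hLs (fun b hb => hzF.star (by rw [pcomm]; exact Φ.pol_f hQ hb))
      hk (hL hk) hQk a ha).2
  obtain ⟨z, hz, hz0, hzF⟩ := hfull
  refine hnofull fun w hw' hw0 => ?_
  by_cases hzw : pol Q z w = 0
  · obtain ⟨t, ht, hzt, htw⟩ := exists_common_nonorth hQ hz0 hw0 hz hzw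
    exact hspread t w ht hw' (hspread z t hz ht hzF hzt) htw
  · exact hspread z w hz hw' hzF hzw

/-- Some stabiliser of a point of the smallest non-singular class attains the bound. -/
theorem exists_index (hM : OddThree Q n) :
    ∃ H : Subgroup ↥(eGroup Q), 2 * H.index + 3 * 3 ^ n = 9 * (3 ^ n * 3 ^ n) := by
  classical
  have hn := hM.big
  have hd : Module.finrank F (⊤ : Submodule F (ι → F)) = 2 * (n + 1) + 1 := by
    rw [finrank_top, Module.finrank_fintype_fun_eq_card, hM.dim]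
    ring
  obtain ⟨ν, hν, hcount⟩ := minus_value hQ hM.three (n + 1) (ndOn_top hQ) hd
  set S := sphere Q (⊤ : Submodule F (ι → F)) ν with hS
  have hcount' : S.ncard + 3 * 3 ^ n = 9 * (3 ^ n * 3 ^ n) := by
    rw [show 9 * (3 ^ n * 3 ^ n) = 3 ^ (2 * (n + 1)) by ring, ← pow_succ', hcount]
  obtain ⟨v, -, hQv⟩ : S.Nonempty := by
    refine Set.nonempty_of_ncard_ne_zero fun h => ?_
    have h3 : 0 < 3 ^ n := Nat.pow_pos (by norm_num)
    have h4 : 3 * 3 ^ n < 9 * (3 ^ n * 3 ^ n) := by nlinarith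
    omega
  have hv0 : v ≠ 0 := fun h => hν (by rw [← hQv, h, qzero hQ])
  letI := setAction (ι := ι) (F := F) (Q := Q)
  refine ⟨MulAction.stabilizer ↥(eGroup Q) ({v, -v} : Set (ι → F)), ?_⟩
  rw [MulAction.index_stabilizer]
  have horb : MulAction.orbit ↥(eGroup Q) ({v, -v} : Set (ι → F)) = (fun w => ({w, -w} : Set (ι → F))) '' S := by
    have himg : ∀ g : ↥(eGroup Q), g • ({v, -v} : Set (ι → F)) = {act g v, -act g v} := fun g => by
      show act g '' _ = _
      rw [Set.image_pair, ← neg_one_smul F v, act_smul, neg_one_smul]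
    ext U
    constructor
    · rintro ⟨g, rfl⟩
      exact ⟨act g v, ⟨Submodule.mem_top, (Q_act g v).trans hQv⟩, (himg g).symm⟩
    · rintro ⟨w, ⟨-, hQw⟩, rfl⟩
      obtain ⟨g, -, hg⟩ := move_value hQ hM.three (ndOn_top hQ) (by omega) (Submodule.mem_top (x := v))
        (Submodule.mem_top (x := w)) hv0 (fun h => hν (by rw [← hQw, h, qzero hQ])) (hQv.trans hQw.symm)
      exact ⟨g, by show g • _ = _; rw [himg, hg]⟩
  rw [horb]
  set f : (ι → F) → Set (ι → F) := fun w => {w, -w} with hf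
  have hfib : ∀ U ∈ S.toFinset.image f, (S.toFinset.filter fun w => f w = U).card = 2 := fun U hU => by
    obtain ⟨w, hw, rfl⟩ := Finset.mem_image.1 hU
    rw [Set.mem_toFinset] at hw
    have hw0 : w ≠ 0 := fun h => hν (by rw [← hw.2, h, qzero hQ])
    have hww : w ≠ -w := fun h => hw0 ((smul_eq_zero.1 (show (2 : F) • w = 0 by
      rw [two_smul]; nth_rewrite 1 [h]; exact neg_add_cancel w)).resolve_left (two_ne_zero' hM.three))
    rw [← Finset.card_pair hww]
    congr 1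
    ext a
    simp only [Finset.mem_filter, Set.mem_toFinset, Finset.mem_insert, Finset.mem_singleton, hf]
    refine ⟨fun ⟨_, h⟩ => ?_, ?_⟩
    · have : a ∈ ({w, -w} : Set (ι → F)) := h ▸ Set.mem_insert a _
      simpa using this
    · rintro (rfl | rfl)
      · exact ⟨hw, rfl⟩
      · refine ⟨⟨Submodule.mem_top, ?_⟩, by rw [neg_neg, Set.pair_comm]⟩
        rw [qneg hQ, hw.2]
  have h1 := Finset.card_eq_sum_card_image f S.toFinset
  rw [Finset.sum_congr rfl hfib, Finset.sum_const, smul_eq_mul, ← Set.toFinset_image,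
    ← Set.ncard_eq_toFinset_card', ← Set.ncard_eq_toFinset_card'] at h1
  omega

/-- The minimal index in the projective orthogonal group, if its centre is trivial. -/
theorem pomega_min_index (hM : OddThree Q n) (hc : Subgroup.center (Cfsg.Omega F Q) = ⊥) :
    (∀ H : Subgroup (Cfsg.POmega F Q), H ≠ ⊤ → 9 * (3 ^ n * 3 ^ n) ≤ 2 * H.index + 3 * 3 ^ n) ∧
      ∃ H : Subgroup (Cfsg.POmega F Q), 2 * H.index + 3 * 3 ^ n = 9 * (3 ^ n * 3 ^ n) := by
  have hn5 : 5 ≤ Fintype.card ι := by have := hM.big; rw [hM.dim]; omega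
  set π := QuotientGroup.mk' (Subgroup.center (Cfsg.Omega F Q)) with hπ
  let φ : Cfsg.Omega F Q ≃* ↥(eGroup Q) :=
    ((Cfsg.Omega F Q).equivMapOfInjective _ (Cfsg.isometryGroup F Q).subtype_injective).trans
      (MulEquiv.subgroupCongr (omegaGL_eq hQ hn5))
  let e : Cfsg.POmega F Q ≃* ↥(eGroup Q) :=
    (MulEquiv.ofBijective π ⟨(MonoidHom.ker_eq_bot_iff π).1 (by rw [hπ, QuotientGroup.ker_mk', hc]),
      QuotientGroup.mk'_surjective _⟩).symm.trans φ
  refine ⟨fun H hH => ?_, ?_⟩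
  · rw [← Subgroup.index_map_equiv H e]
    refine index_bound hQ hM fun h => hH (Subgroup.map_injective (f := e.toMonoidHom) e.injective ?_)
    rw [Subgroup.map_top_of_surjective e.toMonoidHom e.surjective]
    exact h
  · obtain ⟨K, hK⟩ := exists_index hQ hM
    exact ⟨K.map e.symm.toMonoidHom, by rw [← hK]; congr 2; exact Subgroup.index_map_equiv K e.symm⟩

end CfsgLib.PGroup.OrthOddThree
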