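import Cfsg.Agent.Lib.PGroup.OrthOddThree.Dual

/-!
No star is trivial in an action on few points, odd dimension over three elements.
-/

set_option autoImplicit false
set_option linter.unusedSectionVars false

namespace CfsgLib.PGroup.OrthOddThree

open scoped Matrix
open Matrix Cfsg.Geo CfsgLib.Perm.Asch CfsgLib.Perm.Trans CfsgLib.Perm.Trans.Quad CfsgLib.PGroup.OrthIndex
open CfsgLib.PGroup.OrthThreeIndex (three_eq_zero two_ne_zero' eq_cases triv_map)

variable {ι : Type} [Fintype ι] [DecidableEq ι] {F : Type*} [Field F] [Fintype F]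
variable {Q : (ι → F) → F}

local notation "pol" => QuadraticMap.polar

variable (hQ : IsNondegenerateQuadraticForm Q) {n : ℕ}
variable {X : Type*} [MulAction ↥(eGroup Q) X]
include hQ

/-- The element reversing `k` and fixing `s' - Q k • s`. -/
theorem exists_reverse (h2 : (2 : F) ≠ 0) {P : Submodule F (ι → F)} {s s' k : ι → F} (hs : s ∈ P)
    (hs' : s' ∈ P) (hk : k ∈ P) (hQs : Q s = 0) (hQs' : Q s' = 0) (hss : pol Q s s' = 1)
    (hks : pol Q k s = 0) (hks' : pol Q k s' = 0) (hQk : Q k ≠ 0) :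
    ∃ g ∈ inner hQ P, act g k = -k ∧ act g (s' - Q k • s) = s' - Q k • s ∧
      act g (s' + Q k • s) = -(s' + Q k • s) ∧
      ∀ y, pol Q y s = 0 → pol Q y s' = 0 → pol Q y k = 0 → act g y = y := by
  have h1 : pol Q s k = 0 := by rw [pcomm, hks]
  have h3 : pol Q s' ((Q k)⁻¹ • k) = 0 := by rw [psmul_right hQ, pcomm, hks', mul_zero]
  refine ⟨el hQ s k * el hQ s' ((Q k)⁻¹ • k) * el hQ s k, mul_mem (mul_mem (el_mem_inner hQ hs hk hQs h1)
    (el_mem_inner hQ hs' (P.smul_mem _ hk) hQs' h3)) (el_mem_inner hQ hs hk hQs h1), ?_, ?_, ?_,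
    fun y hys hys' hyk => ?_⟩
  case refine_4 => simp only [act_mul, act_el hQ hQs h1, act_el hQ hQs' h3, hys, hys', hyk, psmul_right hQ,
      mul_zero, zero_smul, sub_zero, add_zero]
  all_goals
    have hsk : pol Q s s = 0 := pol_self_singular hQ hQs
    have hsk' : pol Q s' s' = 0 := pol_self_singular hQ hQs'
    simp only [act_mul, act_el hQ hQs h1, act_el hQ hQs' h3, padd_left hQ, psub_left hQ, psmul_left hQ,
      psmul_right hQ, qsmul hQ, hsk, hsk', hss, pcomm s' s, hks, hks', h1, pcomm s' k, pself hQ k]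
    match_scalars <;> field_simp <;> ring

variable (hM : OddThree Q n) [Finite X]
  (hsmall : 2 * Nat.card X + 3 * 3 ^ n + 2 ≤ 9 * (3 ^ n * 3 ^ n))
include hM hsmall

theorem triv_free (Φ : Frame Q) {p : X} (hp : Triv hQ p Φ.e) {a : ι → F} (ha : a ∈ Φ.W hQ)
    (hap : el hQ Φ.e a • p = p) : a = 0 := by
  obtain ⟨c, rfl⟩ := hp a ⟨Φ.pol_e hQ ha, hap⟩
  by_contra hne
  exact Φ.not_line hQ ha hne c rfl

theorem el_cancel (Φ : Frame Q) {p : X} (hp : Triv hQ p Φ.e) {a b : ι → F} (ha : a ∈ Φ.W hQ)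
    (hb : b ∈ Φ.W hQ) (h : el hQ Φ.e a • p = el hQ Φ.e b • p) : a = b := by
  rw [show el hQ Φ.e a = el hQ Φ.e b * el hQ Φ.e (a - b) by
    rw [← el_add hQ Φ.hQe (Φ.pol_e hQ hb) (Φ.pol_e hQ ((Φ.W hQ).sub_mem ha hb)), add_sub_cancel],
    mul_smul, smul_left_cancel_iff] at h
  exact sub_eq_zero.1 (triv_free hQ hM hsmall Φ hp ((Φ.W hQ).sub_mem ha hb) h)

/-- The points with trivial star at `e` form one orbit of the unipotent radical. -/
theorem triv_single (Φ : Frame Q) (hP : Φ.P = ⊤) {x y : X} (hx : Triv hQ x Φ.e) (hy : Triv hQ y Φ.e) :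
    ∃ a ∈ Φ.W hQ, y = el hQ Φ.e a • x := by
  classical
  by_contra hcon
  simp only [not_exists, not_and] at hcon
  let toX : (Φ.W hQ) ⊕ (Φ.W hQ) → X := fun p => match p with
    | .inl a => el hQ Φ.e a.1 • x
    | .inr a => el hQ Φ.e a.1 • y
  have hcross : ∀ a b : Φ.W hQ, el hQ Φ.e a.1 • x = el hQ Φ.e b.1 • y → False := fun a b hh => by
    rw [show el hQ Φ.e a.1 = el hQ Φ.e b.1 * el hQ Φ.e (a.1 - b.1) by
      rw [← el_add hQ Φ.hQe (Φ.pol_e hQ b.2) (Φ.pol_e hQ ((Φ.W hQ).sub_mem a.2 b.2)), add_sub_cancel],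
      mul_smul, smul_left_cancel_iff] at hh
    exact hcon _ ((Φ.W hQ).sub_mem a.2 b.2) hh.symm
  have hinj : Function.Injective toX := by
    rintro (a | a) (b | b) hh <;> simp only [toX] at hh
    · exact congrArg Sum.inl (Subtype.ext (el_cancel hQ hM hsmall Φ hx a.2 b.2 hh))
    · exact (hcross a b hh).elim
    · exact (hcross b a hh.symm).elim
    · exact congrArg Sum.inr (Subtype.ext (el_cancel hQ hM hsmall Φ hy a.2 b.2 hh))
  have hle := Nat.card_le_card_of_injective toX hinj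
  rw [Nat.card_sum, natCard_submodule hQ, W_dim hQ hM Φ hP, hM.three, pow_succ, two_mul n, pow_add] at hle
  omega

/-- A trivial star and a line at the same centre cannot coexist. -/
theorem no_line (Φ : Frame Q) (hP : Φ.P = ⊤) {x y : X} (hx : Triv hQ x Φ.e)
    (hy : (Φ.dual hQ y).ncard = 3) : False := by
  classical
  have hn := hM.big
  have hWd := W_dim hQ hM Φ hP
  set Ω := {p : X | (Φ.dual hQ p).ncard = 3} with hΩ
  obtain ⟨u, hu, hu0⟩ := Set.exists_ne_of_one_lt_ncard (s := Φ.dual hQ y) (by omega) 0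
  have h1 := Φ.duals_tuples hQ (Ω := Ω) (Set.toFinite _) y (fun g c hg a ha => by
      show (Φ.dual hQ (el hQ Φ.e a • g • y)).ncard = 3
      rw [Φ.dual_el hQ ha, hg.dual_ncard y, hy])
    (fun w U => w ∈ U \ {0}) (sphere Q (Φ.W hQ) (Q u) \ {0})
    (fun w ⟨⟨hw, hQw⟩, hw0⟩ => by
      obtain ⟨g, hg, hgu⟩ := move_value hQ hM.three (Φ.W_nd hQ) (by omega) hu.1 hw hu0 hw0 hQw.symm
      refine ⟨_, ⟨g, 1, Φ.mem_inner_levi hQ hg, rfl⟩, ?_, hw0⟩
      rw [(Φ.mem_inner_levi hQ hg).dual y]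
      exact ⟨u, hu, by rw [Φ.leviMap_of_mem hQ (inner_maps hQ hg hu.1), inv_one, one_smul, hgu]⟩)
    2 fun U ⟨g, c, hg, hU⟩ => by
        show (U \ {0}).ncard ≤ 2
        rw [hU, Set.ncard_sdiff_singleton_of_mem (Φ.zero_mem_dual hQ _), hg.dual_ncard y, hy]
  rw [hy] at h1
  have h3 : Ω.ncard + 3 ^ (2 * n + 1) ≤ Nat.card X := by
    have hperp : Module.finrank F (perpS hQ Φ (Φ.dual hQ x)) = 0 := by
      refine Submodule.finrank_eq_zero.2 ((Submodule.eq_bot_iff _).2 fun v hv => ?_)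
      exact triv_free hQ hM hsmall Φ hx hv.1 ((mem_perpS_dual hQ hM Φ hv.1).1 hv)
    have hfull : (Φ.dual hQ x).ncard = 3 ^ (2 * n + 1) := by
      have := finrank_perp hQ hM Φ hP x
      rw [← span_dual hQ hM, card_sub hQ hM]
      congr 1
      omega
    set O := Set.range fun a : Φ.W hQ => el hQ Φ.e a.1 • x with hO
    have hOc : O.ncard = 3 ^ (2 * n + 1) := by
      rw [hO, Set.ncard_range_of_injective fun a b h => Subtype.ext (el_cancel hQ hM hsmall Φ hx a.2 b.2 h),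
        natCard_submodule hQ, hM.three, hWd]
    have hd : Disjoint Ω O := Set.disjoint_left.2 fun p hp ⟨a, ha⟩ => by
      have hp3 : (Φ.dual hQ p).ncard = 3 := hp
      rw [← ha, Φ.dual_el hQ a.2, hfull] at hp3
      have : 3 ^ 2 ≤ 3 ^ (2 * n + 1) := Nat.pow_le_pow_right (by norm_num) (by omega)
      omega
    rw [← hOc, ← Set.ncard_union_eq hd (Set.toFinite _) (Set.toFinite _), ← Set.ncard_univ]
    exact Set.ncard_le_ncard (Set.subset_univ _) (Set.toFinite _)
  have hC : 3 ^ n * 3 ^ n ≤ (sphere Q (Φ.W hQ) (Q u) \ {0}).ncard + 3 ^ n := by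
    obtain ⟨hge, hge0⟩ := sphere_ge hQ hM.three (Q u) n (Φ.W_nd hQ) hWd
    rw [two_mul, pow_add] at hge hge0
    by_cases h0 : Q u = 0
    · have := sphere_ne_zero_card hQ (Φ.W hQ) (Q u)
      have := hge0 h0
      have : 1 ≤ 3 ^ n := Nat.one_le_pow _ _ (by norm_num)
      omega
    · rwa [Set.sdiff_singleton_eq_self fun h => h0 (by rw [← h.2, qzero hQ])]
  rw [pow_succ, two_mul n, pow_add] at h3
  omega

/-- No star is trivial. -/
theorem not_triv (x : X) {z : ι → F} (hz : Q z = 0) (hz0 : z ≠ 0) : ¬ Triv hQ x z := by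
  classical
  intro htr
  have hn := hM.big
  have h6 : 6 ≤ Fintype.card ι := by have := hM.dim; omega
  have hn5 : 5 ≤ Fintype.card ι := by omega
  have h2 := two_ne_zero' (F := F) hM.three
  obtain ⟨Φ, hP, rfl⟩ := exists_frame hQ h6 hz hz0
  have hW := W_dim hQ hM Φ hP
  have hft : ∀ (p : X) (w : ι → F), Q w = 0 → w ≠ 0 → Full hQ p w ∨ Triv hQ p w := fun p w hw hw0 => by
    obtain ⟨Ψ, hΨ, rfl⟩ := exists_frame hQ h6 hw hw0
    rcases classify hQ hM Ψ hΨ hsmall p with h | ⟨h, -⟩ | h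
    · exact Or.inl h
    · obtain ⟨g, hg, hge⟩ := exists_move hQ hn5 (Φ.e_ne hQ) hw0 Φ.hQe hw
      have h1 := triv_map hQ (⟨g, hg⟩ : ↥(eGroup Q)) Φ.hQe htr
      rw [show act (⟨g, hg⟩ : ↥(eGroup Q)) Φ.e = Ψ.e from hge] at h1
      exact (no_line hQ hM hsmall Ψ hΨ h1 h).elim
    · exact Or.inr h
  have hall : ∀ p : X, Triv hQ p Φ.e → ∀ w, Q w = 0 → w ≠ 0 → Triv hQ p w := by
    intro p hp w hw hw0
    refine (hft p w hw hw0).resolve_left fun hF => ?_
    have hstep : ∀ s t : ι → F, Q s = 0 → s ≠ 0 → Q t = 0 → t ≠ 0 → pol Q s t = 0 → Full hQ p s →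
        Full hQ p t := fun s t hs hs0 ht ht0 hst hFs => (hft p t ht ht0).resolve_right fun hT => by
      obtain ⟨c, hc⟩ := hT s ((hFs.star hst).swap hs ht)
      have hc0 : c ≠ 0 := fun h0 => hs0 (by rw [hc, h0, zero_smul])
      have hFt : Full hQ p t := Full.of_smul ht hc0 (hc ▸ hFs)
      obtain ⟨Ψ, hΨ, rfl⟩ := exists_frame hQ h6 ht ht0
      obtain ⟨v, hv, hv0, -⟩ := exists_singular_mem hQ (Ψ.W hQ) (by have := W_dim hQ hM Ψ hΨ; omega)
      obtain ⟨d, hd⟩ := hT v (hFt.star (Ψ.pol_e hQ hv))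
      exact Ψ.not_line hQ hv hv0 d hd
    have hFe : Full hQ p Φ.e := by
      by_cases hwe : pol Q w Φ.e = 0
      · exact hstep w Φ.e hw hw0 Φ.hQe (Φ.e_ne hQ) hwe hF
      · have hf : Q ((pol Q Φ.e w)⁻¹ • w) = 0 := by rw [qsmul hQ, hw, mul_zero]
        have hef : pol Q Φ.e ((pol Q Φ.e w)⁻¹ • w) = 1 := by
          rw [psmul_right hQ, inv_mul_cancel₀ (by rwa [pcomm])]
        set Ψ : Frame Q := topFrame hQ h6 Φ.hQe hf hef
        obtain ⟨t, ht, ht0, hQt⟩ := exists_singular_mem hQ (Ψ.W hQ) (by have := W_dim hQ hM Ψ rfl; omega)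
        have htw : pol Q w t = 0 := by
          have h1 : pol Q t ((pol Q Φ.e w)⁻¹ • w) = 0 := Ψ.pol_f hQ ht
          rw [psmul_right hQ, mul_eq_zero] at h1
          rw [pcomm]
          exact h1.resolve_left (inv_ne_zero (by rwa [pcomm]))
        exact hstep t Φ.e hQt ht0 Φ.hQe (Φ.e_ne hQ) (Ψ.pol_e' hQ ht) (hstep w t hw hw0 hQt ht0 htw hF)
    obtain ⟨v, hv, hv0, -⟩ := exists_singular_mem hQ (Φ.W hQ) (by omega)
    obtain ⟨d, hd⟩ := hp v (hFe.star (Φ.pol_e hQ hv))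
    exact Φ.not_line hQ hv hv0 d hd
  -- an element of order three of `W` fixes a point
  obtain ⟨v, hv, hv0, hQv⟩ := exists_singular_mem hQ (Φ.W hQ) (by omega)
  obtain ⟨v', hv', hQv', hvv⟩ := exists_partner hQ (Φ.W_nd hQ) hv hv0 hQv
  set P₀ := pairPerp hQ (Φ.W hQ) v v' with hP₀
  have hP₀nd : NdOn Q P₀ := pair_nd hQ hv hv' hQv hQv' hvv (Φ.W_nd hQ)
  have hP₀d := pair_finrank_eq hQ hv hv' hQv hQv' hvv
  rw [← hP₀] at hP₀d
  obtain ⟨s, hs, hs0, hQs⟩ := exists_singular_mem hQ P₀ (by omega)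
  obtain ⟨s', hs', hQs', hss⟩ := exists_partner hQ hP₀nd hs hs0 hQs
  set P₁ := pairPerp hQ P₀ s s' with hP₁
  have hP₁nd : NdOn Q P₁ := pair_nd hQ hs hs' hQs hQs' hss hP₀nd
  have hP₁d := pair_finrank_eq hQ hs hs' hQs hQs' hss
  rw [← hP₁] at hP₁d
  obtain ⟨k, hk₁, hQk⟩ := exists_nonsingular hQ hP₁nd (fun h => by rw [h, finrank_bot] at hP₁d; omega)
  obtain ⟨hk, hks, hks'⟩ := (mem_pairPerp hQ).1 hk₁
  set u := s' - Q k • s with hu
  set r := s' + Q k • s with hr
  have hu₀ : u ∈ P₀ := P₀.sub_mem hs' (P₀.smul_mem _ hs)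
  obtain ⟨huW, huv, huv'⟩ := (mem_pairPerp hQ).1 hu₀
  have hQu : Q u = -Q k := by
    rw [hu, qsub hQ, qsmul hQ, hQs, hQs', psmul_right hQ, pcomm s' s, hss]
    ring
  have hQu0 : Q u ≠ 0 := by rw [hQu]; exact neg_ne_zero.2 hQk
  have hvu : pol Q v u = 0 := by rw [pcomm, huv]
  set h := el hQ v u with hh
  have hhi : h ∈ inner hQ (Φ.W hQ) := el_mem_inner hQ hv huW hQv hvu
  have hhe : act h Φ.e = Φ.e := inner_fix hQ hhi fun y hy => Φ.pol_e hQ hy
  have hhW : ∀ a ∈ Φ.W hQ, act h a ∈ Φ.W hQ := fun a ha => inner_maps hQ hhi ha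
  have hconj : ∀ g : ↥(eGroup Q), act g Φ.e = Φ.e →
      ∀ a ∈ Φ.W hQ, ∀ p : X, g • el hQ Φ.e a • p = el hQ Φ.e (act g a) • g • p := fun g hg a ha p => by
    have := el_conj hQ g Φ.hQe (Φ.pol_e hQ ha)
    rw [hg] at this
    rw [← this, ← mul_smul, ← mul_smul, inv_mul_cancel_right]
  have hcomb : ∀ a b : ι → F, a ∈ Φ.W hQ → b ∈ Φ.W hQ → ∀ p : X,
      el hQ Φ.e a • el hQ Φ.e b • p = el hQ Φ.e (a + b) • p := fun a b ha hb p => by
    rw [← mul_smul, ← el_add hQ Φ.hQe (Φ.pol_e hQ ha) (Φ.pol_e hQ hb)]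
  obtain ⟨y, hy, hhx⟩ := triv_single hQ hM hsmall Φ hP htr (by
    have := triv_map hQ h Φ.hQe htr
    rwa [hhe] at this)
  have hah : ∀ a, act h a = a + pol Q a v • u - pol Q a u • v - (Q u * pol Q a v) • v := fun a => by
    rw [hh, act_el hQ hQv hvu]
  -- the cube of `h` is trivial
  have hyv : pol Q y v = 0 := by
    have h3 : h * h * h = 1 := by
      rw [hh, ← el_add hQ hQv hvu hvu, ← el_add hQ hQv (by rw [padd_right hQ, hvu, add_zero]) hvu,
        show u + u + u = (3 : F) • u by module, three_eq_zero hM.three, zero_smul, el_zero hQ hQv]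
    have h4 : el hQ Φ.e (act h (act h y) + act h y + y) • x = x := by
      have h5 : (h * h * h) • x = x := by rw [h3, one_smul]
      rw [mul_smul, mul_smul, hhx, hconj h hhe y hy, hhx, hcomb _ _ (hhW y hy) hy,
        hconj h hhe _ ((Φ.W hQ).add_mem (hhW y hy) hy), hhx,
        hcomb _ _ (hhW _ ((Φ.W hQ).add_mem (hhW y hy) hy)) hy] at h5
      rwa [act_add] at h5
    have h7 := congrArg (fun a => pol Q a v') (triv_free hQ hM hsmall Φ htr
      ((Φ.W hQ).add_mem ((Φ.W hQ).add_mem (hhW _ (hhW y hy)) (hhW y hy)) hy) h4)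
    simp only [hah, padd_left hQ, psub_left hQ, psmul_left hQ, huv', hvv, huv, hvu, pol_self_singular hQ hQv,
      pzero_left hQ, pself hQ u] at h7
    refine (mul_eq_zero.1 (show Q u * pol Q y v = 0 from ?_)).resolve_left hQu0
    linear_combination h7 + (pol Q y u + 2 * (Q u * pol Q y v) - pol Q y v') * three_eq_zero (F := F) hM.three
  -- what the centraliser of `h` says about `y`
  have hkey : ∀ g ∈ inner hQ (Φ.W hQ), act g v = v → act g u = u →
      ∃ z ∈ Φ.W hQ, act g y + z = act h z + y := fun g hg hgv hgu => by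
    have hge : act g Φ.e = Φ.e := inner_fix hQ hg fun w hw => Φ.pol_e hQ hw
    have hgh : g * h = h * g := by
      have h8 := el_conj hQ g hQv hvu
      rw [hgv, hgu, ← hh, mul_inv_eq_iff_eq_mul] at h8
      exact h8
    obtain ⟨z, hz', hgx⟩ := triv_single hQ hM hsmall Φ hP htr (by
      have := triv_map hQ g Φ.hQe htr
      rwa [hge] at this)
    refine ⟨z, hz', el_cancel hQ hM hsmall Φ htr ((Φ.W hQ).add_mem (inner_maps hQ hg hy) hz')
      ((Φ.W hQ).add_mem (hhW z hz') hy) ?_⟩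
    rw [← hcomb _ _ (inner_maps hQ hg hy) hz', ← hcomb _ _ (hhW z hz') hy, ← hgx, ← hhx, ← hconj g hge y hy,
      ← hconj h hhe z hz', ← hgx, ← hhx, ← mul_smul, ← mul_smul, hgh]
  -- `y` is orthogonal to the vectors reversed by an element of the centraliser
  have hrev : ∀ k' ∈ P₁, Q k' = Q k → pol Q y k' = 0 ∧ pol Q y r = 0 := fun k' hk' hQk' => by
    obtain ⟨hk'0, hk's, hk's'⟩ := (mem_pairPerp hQ).1 hk'
    obtain ⟨g, hg, hgk, hgu, hgr, hgfix⟩ := exists_reverse hQ h2 hs hs' hk'0 hQs hQs' hss hk's hk's'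
      (by rw [hQk']; exact hQk)
    rw [hQk', ← hu] at hgu
    rw [hQk', ← hr] at hgr
    have hgv : act g v = v := hgfix v (by rw [pcomm]; exact ((mem_pairPerp hQ).1 hs).2.1)
      (by rw [pcomm]; exact ((mem_pairPerp hQ).1 hs').2.1) (by rw [pcomm]; exact ((mem_pairPerp hQ).1 hk'0).2.1)
    obtain ⟨z, -, hgz⟩ := hkey g (inner_mono hQ (fun w hw => ((mem_pairPerp hQ).1 hw).1) hg) hgv hgu
    have hneg : ∀ w : ι → F, act g w = -w → pol Q v w = 0 → pol Q u w = 0 → pol Q y w = 0 := fun w hw hvw huw => by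
      have h9 := congrArg (fun a => pol Q a w) hgz
      have h10 : pol Q (act g y) w = -pol Q y w := by
        have := pol_act g y w
        rw [hw, pneg_right hQ] at this
        linear_combination -this
      simp only [padd_left hQ, hah, psub_left hQ, psmul_left hQ, hvw, huw, h10] at h9
      exact (mul_eq_zero.1 (show (2 : F) * pol Q y w = 0 by linear_combination -h9)).resolve_left h2
    refine ⟨hneg k' hgk (by rw [pcomm]; exact ((mem_pairPerp hQ).1 hk'0).2.1) ?_, hneg r hgr ?_ ?_⟩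
    · rw [hu, psub_left hQ, psmul_left hQ, pcomm s' k', hk's', pcomm s k', hk's]
      ring
    · rw [hr, padd_right hQ, psmul_right hQ, pcomm v s', ((mem_pairPerp hQ).1 hs').2.1, pcomm v s,
        ((mem_pairPerp hQ).1 hs).2.1]
      ring
    · rw [hu, hr, psub_left hQ, padd_right hQ, padd_right hQ, psmul_left hQ, psmul_left hQ, psmul_right hQ,
        psmul_right hQ, pol_self_singular hQ hQs, pol_self_singular hQ hQs', pcomm s' s, hss]
      ring
  obtain ⟨hyk, hyr⟩ := hrev k hk₁ rfl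
  have hyP₁ : ∀ p ∈ P₁, pol Q y p = 0 := by
    have hk0 : k ≠ 0 := fun h0 => hQk (by rw [h0, qzero hQ])
    rcases Nat.lt_or_ge (Module.finrank F P₁) 3 with hd | hd
    · have hspan : Submodule.span F {k} = P₁ := Submodule.eq_of_le_of_finrank_le
        ((Submodule.span_singleton_le_iff_mem _ _).2 hk₁) (by rw [finrank_span_singleton hk0]; omega)
      intro p hp
      rw [← hspan] at hp
      obtain ⟨c, rfl⟩ := Submodule.mem_span_singleton.1 hp
      rw [psmul_right hQ, hyk, mul_zero]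
    refine mem_of_singular hQ hP₁nd hd (S := {p | pol Q y p = 0})
      (fun p hp q hq => by
        show pol Q y (p + q) = 0
        rw [padd_right hQ, hp, hq, add_zero]) fun σ hσ hQσ => ?_
    show pol Q y σ = 0
    rcases eq_or_ne σ 0 with rfl | hσ0
    · exact pzero_right hQ y
    obtain ⟨b, hb, hbn⟩ := SetLike.not_le_iff_exists.1 (show ¬ orthIn hQ P₁ σ ≤ Submodule.span F {σ} from fun hle => by
      have h7 := Submodule.finrank_mono hle
      rw [finrank_span_singleton hσ0] at h7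
      have := finrank_orthIn hQ P₁ σ
      omega)
    obtain ⟨hbP, hbσ⟩ := (mem_orthIn hQ).1 hb
    obtain ⟨hσ₀, hσs, hσs'⟩ := (mem_pairPerp hQ).1 hσ
    obtain ⟨hb₀, hbs, hbs'⟩ := (mem_pairPerp hQ).1 hbP
    obtain ⟨hσW, hσv, hσv'⟩ := (mem_pairPerp hQ).1 hσ₀
    obtain ⟨hbW, hbv, hbv'⟩ := (mem_pairPerp hQ).1 hb₀
    have hσb : pol Q σ b = 0 := by rw [pcomm, hbσ]
    have hσu : pol Q σ u = 0 := by rw [hu, psub_right hQ, psmul_right hQ, hσs, hσs']; ring
    have hbu : pol Q b u = 0 := by rw [hu, psub_right hQ, psmul_right hQ, hbs, hbs']; ring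
    have hgv : act (el hQ σ b) v = v := by rw [act_el hQ hQσ hσb, pcomm v σ, hσv, pcomm v b, hbv]; module
    have hgu : act (el hQ σ b) u = u := by rw [act_el hQ hQσ hσb, pcomm u σ, hσu, pcomm u b, hbu]; module
    obtain ⟨z, -, hgz⟩ := hkey _ (el_mem_inner hQ hσW hbW hQσ hσb) hgv hgu
    rw [act_el hQ hQσ hσb, hah z] at hgz
    have hA : (pol Q y σ • b - (pol Q y b + Q b * pol Q y σ) • σ) -
        (pol Q z v • u - (pol Q z u + Q u * pol Q z v) • v) = 0 := by
      rw [← sub_eq_zero.2 hgz]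
      module
    have hzv := congrArg (fun a => pol Q a u) hA
    simp only [psub_left hQ, psmul_left hQ, hbu, hσu, hvu, pzero_left hQ, pself hQ u] at hzv
    have hzv' : pol Q z v = 0 := by
      have h10 : pol Q z v * (2 * Q u) = 0 := by linear_combination -hzv
      exact (mul_eq_zero.1 h10).resolve_right (mul_ne_zero h2 hQu0)
    have hzu := congrArg (fun a => pol Q a v') hA
    simp only [psub_left hQ, psmul_left hQ, hbv', hσv', huv', hvv, pzero_left hQ] at hzu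
    by_contra hys
    refine hbn (Submodule.mem_span_singleton.2 ⟨(pol Q y σ)⁻¹ * (pol Q y b + Q b * pol Q y σ), ?_⟩)
    have hzu' : pol Q z u = 0 := by linear_combination hzu - Q u * hzv'
    rw [hzv', hzu', zero_smul, mul_zero, add_zero, zero_smul, sub_zero, sub_zero, sub_eq_zero] at hA
    rw [← smul_smul, ← hA, smul_smul, inv_mul_cancel₀ hys, one_smul]
  -- so `h` fixes a point
  have hy0 : y - pol Q y v' • v ∈ P₀ := (mem_pairPerp hQ).2 ⟨(Φ.W hQ).sub_mem hy ((Φ.W hQ).smul_mem _ hv),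
    by rw [psub_left hQ, psmul_left hQ, hyv, pol_self_singular hQ hQv]; ring,
    by rw [psub_left hQ, psmul_left hQ, hvv]; ring⟩
  obtain ⟨c, hc⟩ := mem_span_of_orth hQ hP₀nd hu₀ hy0 fun q hq hqu => by
    have hq₁ := pair_proj hQ hs hs' hQs hQs' hss hq
    set p := q - pol Q q s' • s - pol Q q s • s' with hp
    have hqs : pol Q q s' = Q k * pol Q q s := by
      rw [hu, psub_right hQ, psmul_right hQ] at hqu
      linear_combination hqu
    have hqd : q = pol Q q s • r + p := by rw [hp, hr, hqs]; module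
    rw [psub_right hQ, psmul_right hQ, ((mem_pairPerp hQ).1 hq).2.1, pcomm q y, hqd, padd_right hQ,
      psmul_right hQ, hyr, hyP₁ p hq₁]
    ring
  set α := pol Q y v'
  set a := (-c) • v' + ((α + Q u * c) / (2 * Q u)) • u with ha
  have haW : a ∈ Φ.W hQ := (Φ.W hQ).add_mem ((Φ.W hQ).smul_mem _ hv') ((Φ.W hQ).smul_mem _ huW)
  have hfix : h • el hQ Φ.e a • x = el hQ Φ.e a • x := by
    rw [hconj h hhe a haW, hhx, hcomb _ _ (hhW a haW) hy]
    congr 2
    rw [hah, show y = α • v + c • u by rw [← hc]; abel, ha]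
    simp only [padd_left hQ, psmul_left hQ, pcomm v' v, hvv, huv, pcomm v' u, huv', pself hQ u]
    match_scalars <;> field_simp <;> ring
  have hp : Triv hQ (el hQ Φ.e a • x) Φ.e := by
    have h1 := triv_map hQ (el hQ Φ.e a) Φ.hQe htr
    rwa [act_el hQ Φ.hQe (Φ.pol_e hQ haW), pol_self_singular hQ Φ.hQe, Φ.pol_e hQ haW, zero_smul, mul_zero,
      zero_smul, add_zero, sub_zero, sub_zero] at h1
  obtain ⟨d, hd⟩ := hall _ hp v hQv hv0 u ⟨hvu, hfix⟩
  exact hQu0 (by rw [hd, qsmul hQ, hQv, mul_zero])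

end CfsgLib.PGroup.OrthOddThree
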